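/-
Data for the centraliser of an octad involution in Co2 (bit indices: `23` is the extra point).
-/
import Cfsg.Agent.EqLemmas

set_option autoImplicit false

namespace Cfsg.Agent.Co2Centralizer

/-- A symplectic basis modulo two of the orthogonal complement of the fixed vector in the octad lattice. -/
def basisData : List (List ℤ) := [[0, 4, -4, 0, 0, 0, 0, 0, 0, 0, 0, 0, 0, 0, 0, 0, 0, 0, 0, 0, 0, 0, 0, 0],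
  [0, -4, 4, 4, 0, -4, 0, 0, 0, 0, 0, 0, 0, 0, 0, 0, 0, 0, 0, 0, 0, 0, 0, 0],
  [0, 4, -4, -4, 0, 4, 0, 0, 0, 0, 0, 0, 0, 0, 4, 0, 0, -4, 0, 0, 0, 0, 0, 0],
  [0, 0, 4, -4, 0, 0, 0, 0, 0, 0, 0, 0, 0, 0, 0, 0, 0, 0, 0, 0, 0, 0, 0, 0],
  [0, 0, 0, 0, 0, 4, 0, 0, 0, 0, 0, 0, 0, 0, -4, 0, 0, 0, 0, 0, 0, 0, 0, 0],
  [-2, -2, -2, 6, 0, -2, 0, 0, 0, 0, 0, 0, 0, 0, 6, 0, 0, 2, 0, 0, 0, 0, 0, 2]]

/-- A vector of inner product 16 with the fixed vector. -/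
def extraData : List ℤ := [0, 4, 0, 0, 0, 0, 0, 0, 0, 0, 0, 0, 0, 0, 0, 0, 0, 0, 0, 0, 0, 0, 0, 4]

/-- Generators of the octad lattice. -/
def genData : List (List ℤ) := [[4, 0, 0, 0, 0, 0, 0, 0, 0, 0, 0, 0, 0, 0, 0, 0, 0, 0, 0, 0, 0, 0, 0, -4],
  [0, 4, 0, 0, 0, 0, 0, 0, 0, 0, 0, 0, 0, 0, 0, 0, 0, 0, 0, 0, 0, 0, 0, -4],
  [0, 0, 4, 0, 0, 0, 0, 0, 0, 0, 0, 0, 0, 0, 0, 0, 0, 0, 0, 0, 0, 0, 0, -4],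
  [0, 0, 0, 4, 0, 0, 0, 0, 0, 0, 0, 0, 0, 0, 0, 0, 0, 0, 0, 0, 0, 0, 0, -4],
  [0, 0, 0, 0, 0, 4, 0, 0, 0, 0, 0, 0, 0, 0, 0, 0, 0, 0, 0, 0, 0, 0, 0, -4],
  [0, 0, 0, 0, 0, 0, 0, 0, 0, 0, 0, 0, 0, 0, 4, 0, 0, 0, 0, 0, 0, 0, 0, -4],
  [0, 0, 0, 0, 0, 0, 0, 0, 0, 0, 0, 0, 0, 0, 0, 0, 0, 4, 0, 0, 0, 0, 0, -4],
  [0, 0, 0, 0, 0, 0, 0, 0, 0, 0, 0, 0, 0, 0, 0, 0, 0, 0, 0, 0, 0, 0, 0, 8],
  [2, 2, 2, 2, 0, 2, 0, 0, 0, 0, 0, 0, 0, 0, 2, 0, 0, 2, 0, 0, 0, 0, 0, 2]]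

/-- Expansions of the generators. -/
def witData : List (List ℤ × List ℤ) := [([0, 0, 1, 0, 0, 0, 0, 0], [2, -2, 2, 2, 0, -2, 0, 0, 0, 0, 0, 0, 0, 0, -2, 0, 0, 2, 0, 0, 0, 0, 0, -2]),
  ([0, 0, 1, 0, 0, 0, 1, 1], [-2, -2, 2, 2, 0, -2, 0, 0, 0, 0, 0, 0, 0, 0, -2, 0, 0, 2, 0, 0, 0, 0, 0, -6]),
  ([1, 0, 1, 0, 0, 0, 1, 1], [-2, -6, 6, 2, 0, -2, 0, 0, 0, 0, 0, 0, 0, 0, -2, 0, 0, 2, 0, 0, 0, 0, 0, -6]),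
  ([1, 0, 1, 1, 0, 0, 1, 1], [-2, -6, 2, 6, 0, -2, 0, 0, 0, 0, 0, 0, 0, 0, -2, 0, 0, 2, 0, 0, 0, 0, 0, -6]),
  ([0, 1, 1, 1, 0, 0, 1, 1], [-2, -2, -2, 2, 0, 2, 0, 0, 0, 0, 0, 0, 0, 0, -2, 0, 0, 2, 0, 0, 0, 0, 0, -6]),
  ([0, 1, 1, 1, 1, 0, 1, 1], [-2, -2, -2, 2, 0, -2, 0, 0, 0, 0, 0, 0, 0, 0, 2, 0, 0, 2, 0, 0, 0, 0, 0, -6]),
  ([0, 0, 0, 1, 1, 0, 1, 1], [-2, -2, -2, 2, 0, -2, 0, 0, 0, 0, 0, 0, 0, 0, 2, 0, 0, 2, 0, 0, 0, 0, 0, -6]),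
  ([0, 0, 1, 0, 0, 0, 1, 0], [-2, -2, 2, 2, 0, -2, 0, 0, 0, 0, 0, 0, 0, 0, -2, 0, 0, 2, 0, 0, 0, 0, 0, 2]),
  ([0, 0, 1, 1, 1, 1, 0, 1], [2, -2, 2, 2, 0, -2, 0, 0, 0, 0, 0, 0, 0, 0, -2, 0, 0, 2, 0, 0, 0, 0, 0, -2])]

/-- The sextet of the non-monomial element; the first tetrad is negated. -/
def tetradData : List ℕ := [0x800007, 0x412010, 0x24028, 0x2800c0, 0x108600, 0x41900]

/-- A vector moved modulo two by the sign change on six points. -/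
def flipData : List ℤ := [-2, -2, 2, 2, 0, 2, 0, 0, 0, 0, 0, 0, 0, 0, 2, 0, 0, 2, 0, 0, 0, 0, 0, 2]

/-- Permutation, inverse permutation and sign mask of four monomial elements. -/
def monoData : List (ℕ × ℕ × ℕ) := [(0x71a703aa282098db268f5c875082e5, 0xac89a9a3445d8d3c9509d80f2b862, 0x0),
  (0xbdab49ca307b9ac5a928398a418820, 0xbdab49ca307b9ac5a928398a418820, 0x65e9c2),
  (0xbdab49ca307b9ac5a928398a418820, 0xbdab49ca307b9ac5a928398a418820, 0x481d0a),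
  (0x5a69ab230539b243e8b31ca418457, 0x5a69ab230539b243e8b31ca418457, 0x32e07e)]

/-- The images of the basis (as six bit numbers) under the four elements. -/
def matData : List (List ℕ) := [[4, 13, 16, 56, 8, 6], [5, 6, 4, 8, 20, 62], [5, 2, 4, 12, 16, 45], [1, 2, 4, 9, 16, 32]]

/-- The centre of the transvection. -/
def centre : ℕ := 1

/-- Each point with a predecessor and the generator moving it there. -/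
def orbitData : List (ℕ × ℕ × ℕ) := [(4, 1, 0), (5, 1, 1), (16, 4, 0), (20, 5, 0), (8, 16, 0), (24, 20, 0), (56, 8, 0), (12, 8, 2), (48, 24, 0), (28, 24, 1), (54, 56, 0), (34, 56, 1), (49, 56, 2), (40, 12, 0), (14, 48, 0), (42, 48, 1), (61, 48, 2), (32, 28, 0), (19, 54, 0), (59, 54, 2), (11, 34, 0), (47, 34, 2), (10, 49, 0), (62, 40, 0), (33, 40, 2), (37, 14, 0), (51, 42, 0), (35, 42, 2), (6, 32, 0), (45, 32, 2), (23, 19, 1), (63, 59, 0), (39, 47, 0), (53, 10, 0), (43, 62, 0), (55, 62, 2), (2, 33, 0), (18, 37, 0), (44, 37, 2), (7, 51, 0), (41, 51, 1), (58, 51, 2), (15, 35, 0), (29, 6, 0), (17, 23, 0), (50, 63, 2), (31, 39, 0), (57, 39, 1), (46, 39, 2), (26, 53, 0), (60, 53, 2), (38, 43, 2), (13, 2, 0), (25, 7, 0), (3, 7, 2), (36, 41, 2), (21, 17, 2), (27, 31, 1), (52, 57, 2), (30, 26, 2),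 (9, 13, 1), (22, 36, 0)]

end Cfsg.Agent.Co2Centralizer
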