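/-
The octad sublattice of the Leech lattice modulo two and the fixed vector.

* `ofList`, `isLeech`, `mem_of_isLeech`
* `octSub` (vectors supported on the octad), `octSub_induction`
* `cz` : six coordinates modulo two;  `exists_decomp`, `cz_decomp`, `pair_eq`
-/
import Cfsg.Agent.Lib.Co2Centralizer.Data
import Cfsg.Agent.Lib.Leech.Monomial
import Cfsg.Agent.Lib.Golay.M24

set_option autoImplicit false
open Cfsg
open Cfsg.Agent.Leech

namespace Cfsg.Agent.Co2Centralizer

/-- A vector from its list of coordinates. -/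
def ofList (L : List ℤ) : GolayPt → ℤ := fun i => L.getD (Golay.idx i) 0

/-- A membership test for the Leech lattice. -/
def isLeech (x : GolayPt → ℤ) : Bool :=
  (decide (∀ i, (x i - x none) % 2 = 0) &&
    decide ((∑ i, (x i - x none) / 2 - 2 * x none) % 4 = 0)) &&
    Golay.isCode (Golay.maskOf (Finset.univ.filter fun i => (x i - x none) / 2 % 2 ≠ 0))

theorem mem_of_isLeech {x : GolayPt → ℤ} (h : isLeech x = true) : x ∈ leechLattice := by
  simp only [isLeech, Bool.and_eq_true, decide_eq_true_eq] at h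
  obtain ⟨⟨h1, h2⟩, h3⟩ := h
  refine mem_iff.2 ⟨x none, fun i => (x i - x none) / 2, fun i => by
    have := h1 i
    show x i = x none + 2 * ((x i - x none) / 2)
    omega, ?_, ?_⟩
  · simp only [Int.ModEq]; omega
  · rw [mem_code_iff_support]
    have h4 := (Golay.pts_mem_supports_iff (Golay.lt_of_isCode h3)).2 h3
    rw [Golay.pts_maskOf] at h4
    have e : support₂ (mod2 fun i => (x i - x none) / 2) =
        Finset.univ.filter fun i => (x i - x none) / 2 % 2 ≠ 0 := by
      ext i
      simp only [support₂, Finset.mem_filter, Finset.mem_univ, true_and, mod2_apply, ne_eq,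
        ZMod.intCast_zmod_eq_zero_iff_dvd, Int.dvd_iff_emod_eq_zero]
      norm_num
    rw [e]
    exact h4

/-- The octad. -/
def oct : Finset GolayPt := Golay.pts Golay.octad0

theorem oct_mem : oct ∈ octads := Golay.octad0_mem

theorem none_mem_oct : (none : GolayPt) ∈ oct := by decide +kernel

theorem zero_mem_oct : (some 0 : GolayPt) ∈ oct := by decide +kernel

/-- The vectors of the lattice supported on the octad. -/
def octSub : AddSubgroup (GolayPt → ℤ) where
  carrier := {x | x ∈ leechLattice ∧ ∀ i ∉ oct, x i = 0}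
  zero_mem' := ⟨leechLattice.zero_mem, fun _ _ => rfl⟩
  add_mem' := fun ha hb => ⟨leechLattice.add_mem ha.1 hb.1, fun i hi => by simp [ha.2 i hi, hb.2 i hi]⟩
  neg_mem' := fun ha => ⟨leechLattice.neg_mem ha.1, fun i hi => by simp [ha.2 i hi]⟩

theorem mem_octSub {x : GolayPt → ℤ} : x ∈ octSub ↔ x ∈ leechLattice ∧ ∀ i ∉ oct, x i = 0 :=
  Iff.rfl

/-- A membership test for `octSub`. -/
def isOct (x : GolayPt → ℤ) : Bool := isLeech x && decide (∀ i, i ∈ oct ∨ x i = 0)

theorem mem_of_isOct {x : GolayPt → ℤ} (h : isOct x = true) : x ∈ octSub := by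
  simp only [isOct, Bool.and_eq_true, decide_eq_true_eq] at h
  exact ⟨mem_of_isLeech h.1, fun i hi => (h.2 i).resolve_left hi⟩

/-- The `k`-th generator of `octSub`. -/
def genVec (k : Fin 9) : GolayPt → ℤ := ofList (genData.getD k.val [])

theorem genVec_data : ∀ k : Fin 8, k.val < 7 → ∀ i : GolayPt, genVec k.castSucc i =
    (if Golay.idx i = [0, 1, 2, 3, 5, 14, 17].getD k.val 0 then 4 else 0) -
      (if i = none then 4 else 0) := by decide +kernel

theorem genVec_last : ∀ i : GolayPt,
    genVec 7 i = (if i = none then 8 else 0) ∧ genVec 8 i = (if i ∈ oct then 2 else 0) := by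
  decide +kernel

theorem genVec_mem (k : Fin 9) : genVec k ∈ octSub :=
  mem_of_isOct ((by decide +kernel : ∀ k : Fin 9, isOct (genVec k) = true) k)

theorem octSub_le_closure : octSub ≤ AddSubgroup.closure (Set.range genVec) := by
  intro x hx
  obtain ⟨hx, hout⟩ := hx
  obtain ⟨m, a, hm, h1, h2, h3⟩ := exists_rep hx
  obtain ⟨e, he⟩ : ∃ e : GolayPt, e ∉ oct := ⟨some 4, by decide +kernel⟩
  have hm0 : m = 0 := by have := h1 e; rw [hout e he] at this; omega
  subst hm0
  have ha0 : ∀ i ∉ oct, a i = 0 := fun i hi => by have := h1 i; rw [hout i hi] at this; omega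
  have hsub : support₂ (mod2 a) ⊆ oct := by
    intro i hi
    have hi' : mod2 a i ≠ 0 := by simpa [support₂] using hi
    by_contra hio
    exact hi' (by rw [mod2_apply, ha0 i hio]; rfl)
  obtain ⟨ε, hε⟩ : ∃ ε : ℤ, ∀ i ∈ oct, (2 : ℤ) ∣ a i - ε := by
    have hs := (mem_code_iff_support _).1 h3
    have hcard := Finset.card_le_card hsub
    rw [show oct.card = 8 from oct_mem.2] at hcard
    have hzero : ∀ i, i ∉ support₂ (mod2 a) → (2 : ℤ) ∣ a i := fun i hi => by
      simp only [support₂, Finset.mem_filter, Finset.mem_univ, true_and, ne_eq, not_not, mod2_apply,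
        ZMod.intCast_zmod_eq_zero_iff_dvd] at hi
      exact_mod_cast hi
    rcases Golay.card_mem_weights hs with h | h | h | h | h
    · exact ⟨0, fun i _ => by
        rw [sub_zero]; exact hzero i (fun hi => by rw [Finset.card_eq_zero.1 h] at hi; simp at hi)⟩
    · refine ⟨1, fun i hi => ?_⟩
      have heq := Finset.eq_of_subset_of_card_le hsub (by rw [h]; exact le_of_eq oct_mem.2)
      rw [← heq] at hi
      simp only [support₂, Finset.mem_filter, Finset.mem_univ, true_and, ne_eq, mod2_apply,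
        ZMod.intCast_zmod_eq_zero_iff_dvd] at hi
      norm_num at hi
      omega
    all_goals omega
  let b : GolayPt → ℤ := fun i => if i ∈ oct then (a i - ε) / 2 else 0
  have hb : ∀ i, x i = ε * (if i ∈ oct then 2 else 0) + 4 * b i := by
    intro i
    by_cases hi : i ∈ oct
    · have := hε i hi
      simp only [b, if_pos hi, h1 i]
      omega
    · simp [b, hi, hout i hi]
  have hbs : (2 : ℤ) ∣ ∑ i, b i := by
    have hc : ∑ i : GolayPt, (if i ∈ oct then (2 : ℤ) else 0) = 16 := by decide +kernel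
    have hs : ∑ i, x i = ε * 16 + 4 * ∑ i, b i := by
      rw [Finset.sum_congr rfl fun i _ => hb i, Finset.sum_add_distrib, ← Finset.mul_sum,
        ← Finset.mul_sum, hc]
    have hs2 : ∑ i, x i = 2 * ∑ i, a i := by
      rw [Finset.mul_sum]; exact Finset.sum_congr rfl fun i _ => by rw [h1 i]; ring
    simp only [Int.ModEq] at h2
    omega
  obtain ⟨k, hk⟩ := hbs
  have hx' : x = ε • genVec 8 + k • genVec 7 +
      ∑ j : Fin 7, b (Golay.pt ([0, 1, 2, 3, 5, 14, 17].getD j.val 0)) • genVec j.castSucc.castSucc := by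
    have hsum : ∑ i, b i = (∑ j : Fin 7, b (Golay.pt ([0, 1, 2, 3, 5, 14, 17].getD j.val 0))) + b none := by
      have e : oct = insert none (Finset.univ.image fun j : Fin 7 =>
          Golay.pt ([0, 1, 2, 3, 5, 14, 17].getD j.val 0)) := by decide +kernel
      refine (Finset.sum_subset (Finset.subset_univ oct) (fun i _ hi => if_neg hi)).symm.trans ?_
      refine (Finset.sum_congr e fun _ _ => rfl).trans ?_
      rw [Finset.sum_insert (by decide +kernel), Finset.sum_image (by decide +kernel), add_comm]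
    funext i
    have hd : ∀ j : Fin 7, genVec j.castSucc.castSucc i =
        (if Golay.pt ([0, 1, 2, 3, 5, 14, 17].getD j.val 0) = i then 4 else 0) -
          (if i = none then 4 else 0) := by
      intro j
      have h := genVec_data j.castSucc j.isLt i
      rw [h]
      congr 1
      refine if_congr ?_ rfl rfl
      constructor
      · intro e; rw [← Golay.pt_idx i, e]; rfl
      · intro e
        rw [← e, Golay.idx_pt ((by decide : ∀ j : Fin 7, [0, 1, 2, 3, 5, 14, 17].getD j.val 0 < 24) j)]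
        rfl
    simp only [Pi.add_apply, Pi.smul_apply, smul_eq_mul, Finset.sum_apply, genVec_last i, hd,
      mul_sub, Finset.sum_sub_distrib, mul_ite, mul_zero]
    rw [hb i]
    by_cases hi : i = none
    · subst hi
      rw [Finset.sum_eq_zero (fun j _ => if_neg ((by decide +kernel : ∀ j : Fin 7,
        Golay.pt ([0, 1, 2, 3, 5, 14, 17].getD j.val 0) ≠ none) j))]
      simp only [if_true, if_pos none_mem_oct]
      rw [← Finset.sum_mul]
      have := hsum
      rw [hk] at this
      linear_combination (-4 : ℤ) * this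
    · simp only [if_neg hi]
      rw [Finset.sum_eq_zero (s := Finset.univ) (f := fun _ => (0 : ℤ)) (fun _ _ => rfl)]
      by_cases hio : i ∈ oct
      · obtain ⟨j, hj⟩ := (by decide +kernel : ∀ i : GolayPt, i ∈ oct → i ≠ none →
          ∃ j : Fin 7, Golay.pt ([0, 1, 2, 3, 5, 14, 17].getD j.val 0) = i) i hio hi
        rw [Finset.sum_eq_single j (fun l _ hl => if_neg fun e => hl
          ((by decide +kernel : ∀ l j : Fin 7, Golay.pt ([0, 1, 2, 3, 5, 14, 17].getD l.val 0) =
            Golay.pt ([0, 1, 2, 3, 5, 14, 17].getD j.val 0) → l = j) l j (e.trans hj.symm)))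
          (by simp), if_pos hj, hj]
        simp [hio]
        ring
      · rw [Finset.sum_eq_zero (fun l _ => if_neg (fun e => hio (by
          rw [← e]
          exact (by decide +kernel : ∀ j : Fin 7, Golay.pt ([0, 1, 2, 3, 5, 14, 17].getD j.val 0) ∈ oct) l)))]
        simp [b, hio]
  rw [hx']
  exact add_mem (add_mem (zsmul_mem (AddSubgroup.subset_closure (Set.mem_range_self (8 : Fin 9))) _)
    (zsmul_mem (AddSubgroup.subset_closure (Set.mem_range_self (7 : Fin 9))) _))
    (sum_mem fun j _ => zsmul_mem (AddSubgroup.subset_closure (Set.mem_range_self _)) _)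

/-- To prove a property closed under sums and negation on `octSub` it suffices to check the generators. -/
theorem octSub_induction {P : (GolayPt → ℤ) → Prop} (hgen : ∀ k, P (genVec k)) (h0 : P 0)
    (hadd : ∀ x y, x ∈ octSub → y ∈ octSub → P x → P y → P (x + y))
    (hneg : ∀ x, x ∈ octSub → P x → P (-x)) {x : GolayPt → ℤ} (hx : x ∈ octSub) : P x := by
  have h := octSub_le_closure hx
  have key : P x ∧ x ∈ octSub := by
    clear hx
    induction h using AddSubgroup.closure_induction with
    | mem y hy => obtain ⟨k, rfl⟩ := hy; exact ⟨hgen k, genVec_mem k⟩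
    | zero => exact ⟨h0, octSub.zero_mem⟩
    | add y z _ _ ihy ihz => exact ⟨hadd y z ihy.2 ihz.2 ihy.1 ihz.1, add_mem ihy.2 ihz.2⟩
    | neg y _ ih => exact ⟨hneg y ih.2 ih.1, neg_mem ih.2⟩
  exact key.1

/-- The index of a coordinate. -/
def coordIdx : Fin 3 ⊕ Fin 3 → ℕ
  | Sum.inl i => i.val
  | Sum.inr i => 3 + i.val

/-- The symplectic basis. -/
def bv (k : Fin 3 ⊕ Fin 3) : GolayPt → ℤ := ofList (basisData.getD (coordIdx k) [])

theorem bv_mem (k : Fin 3 ⊕ Fin 3) : bv k ∈ octSub :=
  mem_of_isOct ((by decide +kernel : ∀ k, isOct (bv k) = true) k)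

/-- The fixed vector as coordinates. -/
def uVec : GolayPt → ℤ := Spor.vecU

theorem uVec_mem : uVec ∈ octSub := mem_of_isOct (by decide +kernel)

/-- The auxiliary vector. -/
def zVec : GolayPt → ℤ := ofList extraData

theorem zVec_mem : zVec ∈ octSub := mem_of_isOct (by decide +kernel)

theorem dot_bv_uVec : ∀ k, dotInt (bv k) uVec = 0 := by decide +kernel

theorem dvd_dot {x y : GolayPt → ℤ} (hx : x ∈ octSub) (hy : y ∈ octSub) : 16 ∣ dotInt x y := by
  refine octSub_induction (P := fun x => 16 ∣ dotInt x y) (fun k => ?_) (by simp [dotInt])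
    (fun a b _ _ iha ihb => by rw [dotInt_add_left]; exact dvd_add iha ihb) (fun a _ iha => ?_) hx
  · refine octSub_induction (P := fun y => 16 ∣ dotInt (genVec k) y)
      (fun l => (by decide +kernel : ∀ k l, 16 ∣ dotInt (genVec k) (genVec l)) k l) (by simp [dotInt])
      (fun a b _ _ iha ihb => ?_) (fun a _ iha => ?_) hy
    · rw [dotInt_comm, dotInt_add_left, dotInt_comm a, dotInt_comm b]; exact dvd_add iha ihb
    · rw [show dotInt (genVec k) (-a) = - dotInt (genVec k) a by simp [dotInt]]; exact dvd_neg.2 iha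
  · rw [show dotInt (-a) y = - dotInt a y by simp [dotInt]]; exact dvd_neg.2 iha

/-- Half the inner product scale: `dot / 16` modulo two. -/
def pair (x y : GolayPt → ℤ) : ZMod 2 := ((dotInt x y / 16 : ℤ) : ZMod 2)

theorem pair_comm (x y : GolayPt → ℤ) : pair x y = pair y x := by rw [pair, pair, dotInt_comm]

theorem pair_add {x y z : GolayPt → ℤ} (hx : x ∈ octSub) (hz : z ∈ octSub) :
    pair (x + y) z = pair x z + pair y z := by
  rw [pair, pair, pair, dotInt_add_left, Int.add_ediv_of_dvd_left (dvd_dot hx hz), Int.cast_add]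

theorem pair_zero (z : GolayPt → ℤ) : pair 0 z = 0 := by simp [pair, dotInt]

/-- Swap the two halves. -/
def dualIdx : Fin 3 ⊕ Fin 3 → Fin 3 ⊕ Fin 3
  | Sum.inl i => Sum.inr i
  | Sum.inr i => Sum.inl i

/-- The coordinates modulo two and the fixed vector. -/
def cz (x : GolayPt → ℤ) : Fin 3 ⊕ Fin 3 → ZMod 2 := fun k => pair x (bv (dualIdx k))

theorem cz_add {x y : GolayPt → ℤ} (hx : x ∈ octSub) : cz (x + y) = cz x + cz y :=
  funext fun _ => pair_add hx (bv_mem _)

/-- `cz` as a homomorphism. -/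
def czHom : ↥octSub →+ (Fin 3 ⊕ Fin 3 → ZMod 2) :=
  AddMonoidHom.mk' (fun x => cz x.1) fun x y => cz_add (y := y.1) x.2

theorem cz_bv : ∀ j k, cz (bv j) k = if k = j then 1 else 0 := by decide +kernel

theorem cz_uVec : ∀ k, cz uVec k = 0 := by decide +kernel

theorem cz_two {x : GolayPt → ℤ} (hx : x ∈ octSub) : cz (x + x) = 0 := by
  rw [cz_add hx]; funext k; exact CharTwo.add_self_eq_zero _

theorem cz_zsmul {x : GolayPt → ℤ} (hx : x ∈ octSub) (n : ℤ) : cz (n • x) = (n : ZMod 2) • cz x := by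
  have h := map_zsmul czHom n ⟨x, hx⟩
  refine h.trans ?_
  funext k
  simp [czHom, zsmul_eq_mul]

theorem cz_sum {ι : Type*} (s : Finset ι) (f : ι → GolayPt → ℤ) (hf : ∀ i ∈ s, f i ∈ octSub) :
    cz (∑ i ∈ s, f i) = ∑ i ∈ s, cz (f i) := by
  classical
  induction s using Finset.induction with
  | empty => funext k; exact pair_zero _
  | insert a s ha ih =>
    rw [Finset.sum_insert ha, Finset.sum_insert ha, cz_add (hf a (Finset.mem_insert_self _ _)),
      ih fun i hi => hf i (Finset.mem_insert_of_mem hi)]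

/-- The eight spanning vectors. -/
def spanVec (k : Fin 8) : GolayPt → ℤ :=
  ofList ((basisData ++ [(List.range 24).map fun i => uVec (Golay.pt i), extraData]).getD k.val [])

theorem spanVec_eq : (∀ j, spanVec ⟨coordIdx j, by cases j <;> simp only [coordIdx] <;> omega⟩ = bv j) ∧
    spanVec 6 = uVec ∧ spanVec 7 = zVec :=
  ⟨fun j => funext fun i => (by decide +kernel : ∀ (j : Fin 3 ⊕ Fin 3) (i : GolayPt),
    spanVec ⟨coordIdx j, by cases j <;> simp only [coordIdx] <;> omega⟩ i = bv j i) j i,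
    funext (by decide +kernel), funext (by decide +kernel)⟩

theorem spanVec_wit : ∀ k : Fin 9, (∀ i : GolayPt, genVec k i =
    (∑ l : Fin 8, (witData.getD k.val ([], [])).1.getD l.val 0 * spanVec l i) +
      2 * ofList (witData.getD k.val ([], [])).2 i) ∧
    isOct (ofList (witData.getD k.val ([], [])).2) = true := by decide +kernel

theorem exists_span {x : GolayPt → ℤ} (hx : x ∈ octSub) :
    ∃ (n : Fin 8 → ℤ), ∃ y ∈ octSub, x = (∑ l, n l • spanVec l) + (2 : ℤ) • y := by
  refine octSub_induction (P := fun x =>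
    ∃ (n : Fin 8 → ℤ), ∃ y ∈ octSub, x = (∑ l, n l • spanVec l) + (2 : ℤ) • y) (fun k => ?_)
    ⟨0, 0, octSub.zero_mem, by simp⟩ ?_ ?_ hx
  · exact ⟨_, _, mem_of_isOct (spanVec_wit k).2, funext fun i => by
      simp only [Pi.add_apply, Finset.sum_apply, Pi.smul_apply, smul_eq_mul]; exact (spanVec_wit k).1 i⟩
  · rintro _ _ - - ⟨n, y, hy, rfl⟩ ⟨m, z, hz, rfl⟩
    refine ⟨n + m, y + z, add_mem hy hz, ?_⟩
    simp only [Pi.add_apply, add_smul, Finset.sum_add_distrib, smul_add]
    abel
  · rintro _ - ⟨n, y, hy, rfl⟩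
    refine ⟨-n, -y, neg_mem hy, ?_⟩
    simp only [Pi.neg_apply, neg_smul, Finset.sum_neg_distrib, smul_neg]
    abel

/-- A vector orthogonal to the fixed one is a combination of the basis modulo two and the fixed
vector. -/
theorem exists_decomp {x : GolayPt → ℤ} (hx : x ∈ octSub) (hu : dotInt x uVec = 0) :
    ∃ (n : Fin 3 ⊕ Fin 3 → ℤ) (c : ℤ), ∃ y ∈ octSub,
      x = (∑ j, n j • bv j) + c • uVec + (2 : ℤ) • y := by
  obtain ⟨n, y, hy, rfl⟩ := exists_span hx
  obtain ⟨hb, h6, h7⟩ := spanVec_eq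
  obtain ⟨q, hq⟩ : (2 : ℤ) ∣ n 7 := by
    have hd : ∀ l : Fin 8, dotInt (spanVec l) uVec = [0, 0, 0, 0, 0, 0, 32, 16].getD l.val 0 := by
      decide +kernel
    obtain ⟨e, he⟩ := dvd_dot hy uVec_mem
    rw [dotInt_add_left] at hu
    have h1 : dotInt (∑ l, n l • spanVec l) uVec = ∑ l, n l * dotInt (spanVec l) uVec := by
      simp only [dotInt, Finset.sum_apply, Pi.smul_apply, smul_eq_mul, Finset.sum_mul, Finset.mul_sum,
        mul_assoc]
      exact Finset.sum_comm
    have h2 : dotInt ((2 : ℤ) • y) uVec = 2 * dotInt y uVec := by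
      simp only [dotInt, Pi.smul_apply, smul_eq_mul, Finset.mul_sum, mul_assoc]
    rw [h1, h2, he, Fin.sum_univ_eight, hd, hd, hd, hd, hd, hd, hd, hd] at hu
    simp at hu
    omega
  refine ⟨fun j => n ⟨coordIdx j, by cases j <;> simp only [coordIdx] <;> omega⟩, n 6,
    q • zVec + y, add_mem (zsmul_mem zVec_mem _) hy, ?_⟩
  rw [Fintype.sum_sum_type, Fin.sum_univ_three, Fin.sum_univ_three, Fin.sum_univ_eight, h6, h7, hq,
    ← hb (Sum.inl 0), ← hb (Sum.inl 1), ← hb (Sum.inl 2), ← hb (Sum.inr 0), ← hb (Sum.inr 1),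
    ← hb (Sum.inr 2), smul_add, smul_smul]
  simp [coordIdx]
  abel

theorem cz_decomp (n : Fin 3 ⊕ Fin 3 → ℤ) (c : ℤ) {y : GolayPt → ℤ} (hy : y ∈ octSub) :
    cz ((∑ j, n j • bv j) + c • uVec + (2 : ℤ) • y) = fun j => (n j : ZMod 2) := by
  have h1 : (∑ j, n j • bv j) ∈ octSub := sum_mem fun j _ => zsmul_mem (bv_mem j) _
  rw [cz_add (add_mem h1 (zsmul_mem uVec_mem _)), cz_add h1, cz_zsmul uVec_mem, cz_zsmul hy,
    cz_sum _ _ fun j _ => zsmul_mem (bv_mem j) _]
  funext k
  simp only [cz_zsmul (bv_mem _), Pi.add_apply, Pi.smul_apply, Finset.sum_apply, smul_eq_mul,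
    cz_bv, cz_uVec, mul_zero, add_zero, mul_ite, mul_one, Finset.sum_ite_eq, Finset.mem_univ, if_true]
  rw [show ((2 : ℤ) : ZMod 2) = 0 from rfl, zero_mul, add_zero]

theorem pair_bv_val : ∀ j k, pair (bv j) (bv k) = if k = dualIdx j then (1 : ZMod 2) else 0 := by
  decide +kernel

theorem pair_bv (j k : Fin 3 ⊕ Fin 3) : pair (bv j) (bv k) = Matrix.J (Fin 3) (ZMod 2) j k := by
  rw [pair_bv_val]
  rcases j with j | j <;> rcases k with k | k <;>
    simp [Matrix.J, dualIdx, Matrix.one_apply, eq_comm]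

/-- The pairing in coordinates. -/
theorem pair_eq {x y : GolayPt → ℤ} (hx : x ∈ octSub) (hux : dotInt x uVec = 0)
    (hy : y ∈ octSub) (huy : dotInt y uVec = 0) :
    pair x y = sympForm 3 (ZMod 2) (cz x) (cz y) := by
  have hl : ∀ (z : GolayPt → ℤ), z ∈ octSub → dotInt z uVec = 0 → ∀ w, w ∈ octSub →
      dotInt w uVec = 0 → pair z w = ∑ j, cz z j * pair (bv j) w := by
    intro z hz huz w hw huw
    obtain ⟨n, c, v, hv, rfl⟩ := exists_decomp hz huz
    rw [cz_decomp n c hv]
    let F : ↥octSub →+ ZMod 2 :=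
      AddMonoidHom.mk' (fun s => pair s.1 w) fun s t => pair_add (y := t.1) s.2 hw
    have h := congrArg F (show (⟨_, hz⟩ : ↥octSub) = (∑ j, n j • (⟨bv j, bv_mem j⟩ : ↥octSub)) +
      c • ⟨uVec, uVec_mem⟩ + (2 : ℤ) • ⟨v, hv⟩ from Subtype.ext (by simp))
    rw [map_add, map_add, map_sum, map_zsmul, map_zsmul] at h
    refine h.trans ?_
    simp only [map_zsmul, zsmul_eq_mul, F, AddMonoidHom.mk'_apply]
    rw [show pair uVec w = 0 by rw [pair_comm, pair, huw]; rfl,
      show ((2 : ℤ) : ZMod 2) = 0 from rfl, mul_zero, zero_mul, add_zero, add_zero]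
  rw [hl x hx hux y hy huy]
  simp only [sympForm, dotProduct, Matrix.mulVec]
  refine Finset.sum_congr rfl fun j _ => ?_
  rw [pair_comm, hl y hy huy (bv j) (bv_mem j) (dot_bv_uVec j)]
  congr 1
  refine Finset.sum_congr rfl fun k _ => ?_
  rw [pair_comm, pair_bv, mul_comm]

end Cfsg.Agent.Co2Centralizer
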