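/-
The centraliser `cent` of the octad sign change in the stabiliser of the fixed vector, and its
action `phi` on six coordinates modulo two.
-/
import Cfsg.Agent.Lib.Co2Centralizer.Coord

set_option autoImplicit false
open Cfsg
open Cfsg.Agent.Leech

namespace Cfsg.Agent.Co2Centralizer

theorem octCompl_mem : octᶜ ∈ supports (golayCode : Set (GolayPt → ZMod 2)) :=
  Golay.compl_mem oct_mem.1

/-- The involution. -/
def inv0 : Co0 := signEl octᶜ octCompl_mem

theorem inv0_smul (v : leechLattice) (i : GolayPt) :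
    ((inv0 • v : leechLattice) : GolayPt → ℤ) i =
      if i ∈ oct then (v : GolayPt → ℤ) i else -(v : GolayPt → ℤ) i := by
  rw [inv0, vec_signEl]
  simp only [Finset.mem_compl, ite_not]

/-- The centraliser. -/
def cent : Subgroup Co0 := MulAction.stabilizer Co0 Spor.leechU ⊓ Subgroup.centralizer {inv0}

theorem mem_cent {g : Co0} : g ∈ cent ↔ g • Spor.leechU = Spor.leechU ∧ g * inv0 = inv0 * g := by
  rw [cent, Subgroup.mem_inf, MulAction.mem_stabilizer_iff, Subgroup.mem_centralizer_singleton_iff]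

/-- A supported vector as a lattice vector. -/
def lift (x : octSub) : leechLattice := ⟨x.1, x.2.1⟩

theorem mem_octSub_iff_fixed (v : leechLattice) :
    (v : GolayPt → ℤ) ∈ octSub ↔ inv0 • v = v := by
  constructor
  · intro h
    refine Subtype.ext (funext fun i => ?_)
    rw [inv0_smul]
    split_ifs with hi
    · rfl
    · rw [h.2 i hi, neg_zero]
  · intro h
    refine ⟨v.2, fun i hi => ?_⟩
    have h2 := congrFun (congrArg Subtype.val h) i
    rw [inv0_smul, if_neg hi] at h2
    omega

theorem smul_mem_octSub (g : cent) (x : octSub) :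
    (((g : Co0) • lift x : leechLattice) : GolayPt → ℤ) ∈ octSub := by
  rw [mem_octSub_iff_fixed, ← mul_smul, ← (mem_cent.1 g.2).2, mul_smul,
    (mem_octSub_iff_fixed (lift x)).1 x.2]

/-- The action on the octad lattice. -/
def octMap (g : cent) : octSub →+ octSub :=
  AddMonoidHom.mk' (fun x => ⟨_, smul_mem_octSub g x⟩) fun x y =>
    Subtype.ext (by
      have h : (g : Co0) • lift (x + y) = (g : Co0) • lift x + (g : Co0) • lift y :=
        smul_vadd (g : Co0) (lift x) (lift y)
      exact congrArg (fun v : leechLattice => (v : GolayPt → ℤ)) h)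

theorem octMap_apply (g : cent) (x : octSub) :
    (octMap g x : GolayPt → ℤ) = ((g : Co0) • lift x : leechLattice) := rfl

/-- The fixed vector in the octad lattice. -/
def uOct : octSub := ⟨uVec, uVec_mem⟩

/-- The basis in the octad lattice. -/
def bOct (j : Fin 3 ⊕ Fin 3) : octSub := ⟨bv j, bv_mem j⟩

theorem octMap_uOct (g : cent) : octMap g uOct = uOct :=
  Subtype.ext (congrArg (fun v : leechLattice => (v : GolayPt → ℤ))
    (show (g : Co0) • lift uOct = lift uOct from (mem_cent.1 g.2).1))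

theorem dot_octMap (g : cent) (x y : octSub) :
    dotInt (octMap g x : GolayPt → ℤ) (octMap g y : GolayPt → ℤ) = dotInt x.1 y.1 :=
  dotInt_smul (g : Co0) (lift x) (lift y)

theorem dot_octMap_u (g : cent) (x : octSub) :
    dotInt (octMap g x : GolayPt → ℤ) uVec = dotInt x.1 uVec := by
  have h := dot_octMap g x uOct
  rwa [octMap_uOct] at h

/-- The matrix on the six coordinates. -/
def mat (g : cent) : Matrix (Fin 3 ⊕ Fin 3) (Fin 3 ⊕ Fin 3) (ZMod 2) :=
  Matrix.of fun k j => cz (octMap g (bOct j)) k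

theorem exists_decomp' {x : octSub} (hu : dotInt x.1 uVec = 0) :
    ∃ (n : Fin 3 ⊕ Fin 3 → ℤ) (c : ℤ) (y : octSub),
      x = (∑ j, n j • bOct j) + c • uOct + (2 : ℤ) • y := by
  obtain ⟨n, c, y, hy, h⟩ := exists_decomp x.2 hu
  exact ⟨n, c, ⟨y, hy⟩, Subtype.ext (by rw [h]; simp [bOct, uOct])⟩

theorem cz_octMap (g : cent) {x : octSub} (hu : dotInt x.1 uVec = 0) :
    cz (octMap g x) = (mat g).mulVec (cz x.1) := by
  obtain ⟨n, c, y, rfl⟩ := exists_decomp' hu
  have h1 : cz ((∑ j, n j • bOct j) + c • uOct + (2 : ℤ) • y : octSub).1 = fun j => (n j : ZMod 2) := by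
    rw [← cz_decomp n c y.2]
    simp [bOct, uOct]
  rw [h1]
  have h2 : ∀ z : octSub, cz z.1 = czHom z := fun _ => rfl
  rw [h2]
  simp only [map_add, map_sum, map_zsmul, octMap_uOct]
  funext k
  simp only [Pi.add_apply, Finset.sum_apply, Pi.smul_apply, zsmul_eq_mul, Pi.mul_apply,
    Pi.intCast_apply]
  rw [show czHom uOct k = 0 from cz_uVec k, show ((2 : ℤ) : ZMod 2) = 0 from rfl, mul_zero, zero_mul,
    add_zero, add_zero, Matrix.mulVec, dotProduct]
  exact Finset.sum_congr rfl fun j _ => mul_comm _ _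

theorem mat_mul (g h : cent) : mat (g * h) = mat g * mat h := by
  ext k j
  have e : octMap (g * h) (bOct j) = octMap g (octMap h (bOct j)) :=
    Subtype.ext (congrArg (fun v : leechLattice => (v : GolayPt → ℤ))
      (mul_smul (g : Co0) (h : Co0) (lift (bOct j))))
  show cz (octMap (g * h) (bOct j)) k = _
  rw [e, cz_octMap g ((dot_octMap_u h _).trans (dot_bv_uVec j))]
  rfl

theorem mat_one : mat 1 = 1 := by
  ext k j
  show cz (bv j) k = _
  rw [cz_bv, Matrix.one_apply]

theorem form_mat (g : cent) (v w : Fin 3 ⊕ Fin 3 → ZMod 2) :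
    sympForm 3 (ZMod 2) ((mat g).mulVec v) ((mat g).mulVec w) = sympForm 3 (ZMod 2) v w := by
  have hlift : ∀ v : Fin 3 ⊕ Fin 3 → ZMod 2, ∃ x : octSub, dotInt x.1 uVec = 0 ∧ cz x.1 = v := by
    intro v
    refine ⟨∑ j, ((v j).val : ℤ) • bOct j, ?_, ?_⟩
    · simp only [AddSubgroup.val_finsetSum, AddSubgroup.coe_zsmul, dotInt, Finset.sum_apply,
        Pi.smul_apply, smul_eq_mul, Finset.sum_mul]
      rw [Finset.sum_comm]
      refine Finset.sum_eq_zero fun j _ => ?_
      simp only [mul_assoc, ← Finset.mul_sum]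
      rw [show (∑ i, (bOct j).1 i * uVec i) = dotInt (bv j) uVec from rfl, dot_bv_uVec, mul_zero]
    · show czHom (∑ j, ((v j).val : ℤ) • bOct j) = v
      rw [map_sum]
      funext k
      simp only [map_zsmul, Finset.sum_apply, Pi.smul_apply, zsmul_eq_mul, Pi.mul_apply, Pi.intCast_apply]
      rw [Finset.sum_eq_single k (fun j _ hj => by
        rw [show czHom (bOct j) k = 0 from (cz_bv j k).trans (if_neg (Ne.symm hj)), mul_zero]) (by simp),
        show czHom (bOct k) k = 1 from (cz_bv k k).trans (if_pos rfl), mul_one]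
      simp
  obtain ⟨x, hxu, rfl⟩ := hlift v
  obtain ⟨y, hyu, rfl⟩ := hlift w
  rw [← cz_octMap g hxu, ← cz_octMap g hyu,
    ← pair_eq (octMap g x).2 ((dot_octMap_u g x).trans hxu) (octMap g y).2 ((dot_octMap_u g y).trans hyu),
    ← pair_eq x.2 hxu y.2 hyu, pair, pair, dot_octMap]

theorem mat_mem (g : cent) : mat g ∈ Matrix.symplecticGroup (Fin 3) (ZMod 2) := by
  rw [SymplecticGroup.mem_iff']
  ext i j
  have h := form_mat g (Pi.single i 1) (Pi.single j 1)
  simp only [sympForm, Matrix.mulVec_single_one] at h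
  rw [single_dotProduct, one_mul] at h
  rw [show Matrix.J (Fin 3) (ZMod 2) i j = (Matrix.J (Fin 3) (ZMod 2)).col j i from rfl, ← h,
    Matrix.mul_assoc, Matrix.mul_apply]
  rfl

/-- The homomorphism to the symplectic group. -/
def phi : cent →* Matrix.symplecticGroup (Fin 3) (ZMod 2) where
  toFun g := ⟨mat g, mat_mem g⟩
  map_one' := Subtype.ext mat_one
  map_mul' g h := Subtype.ext (mat_mul g h)

end Cfsg.Agent.Co2Centralizer
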