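/-
Explicit elements of the centraliser: monomial maps and a non-monomial involution of the lattice.

* `xiEl`, `monoEl`, `genCo0`, `genEl k : cent`
* `phi_genEl` : their matrices
-/
import Cfsg.Agent.Lib.Co2Centralizer.Group
import Cfsg.Agent.Lib.Leech.Generation

set_option autoImplicit false
open Cfsg
open Cfsg.Agent.Leech

namespace Cfsg.Agent.Co2Centralizer

/-! ### Generators of the lattice -/

/-- A lift of a code mask with entries 0, 2. -/
def rowVec (m : ℕ) : GolayPt → ℤ := fun i => if m.testBit (Golay.idx i) then 2 else 0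

/-- The generators used to prove properties of all lattice vectors. -/
def latGens : List (GolayPt → ℤ) :=
  ((List.range 23).map fun k => Pi.single (Golay.pt k) 4 - Pi.single none 4) ++
    [Pi.single none 8] ++ Golay.rows.map rowVec ++ [oddMin]

theorem latGens_mem : ∀ x ∈ latGens, x ∈ leechLattice := by
  have h : latGens.all isLeech = true := by decide +kernel
  exact fun x hx => mem_of_isLeech (List.all_eq_true.1 h x hx)

theorem mem_closure_latGens {x : GolayPt → ℤ} (hx : x ∈ leechLattice) :
    x ∈ AddSubgroup.closure {x | x ∈ latGens} := by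
  set S := AddSubgroup.closure {x | x ∈ latGens} with hS
  have hm : ∀ y ∈ latGens, y ∈ S := fun y hy => AddSubgroup.subset_closure hy
  have hodd : oddMin ∈ S := hm _ (by simp [latGens])
  have hdiff : ∀ i : GolayPt, (Pi.single i 4 - Pi.single none 4 : GolayPt → ℤ) ∈ S := fun i => by
    by_cases hi : i = none
    · subst hi; rw [sub_self]; exact S.zero_mem
    · refine hm _ ?_
      simp only [latGens, List.mem_append, List.mem_map, List.mem_range]
      refine Or.inl (Or.inl (Or.inl ⟨Golay.idx i, ?_, by rw [Golay.pt_idx]⟩))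
      revert i; decide
  have h8 : (Pi.single none 8 : GolayPt → ℤ) ∈ S := hm _ (by simp [latGens])
  have h4 : ∀ b : GolayPt → ℤ, (2 : ℤ) ∣ ∑ i, b i → (4 : ℤ) • b ∈ S := by
    rintro b ⟨k, hk⟩
    have he : (4 : ℤ) • b = ∑ i, b i • (Pi.single i 4 - Pi.single none 4 : GolayPt → ℤ)
        + k • (Pi.single none 8 : GolayPt → ℤ) := by
      funext l
      simp only [Pi.smul_apply, Pi.add_apply, Finset.sum_apply, Pi.sub_apply, smul_eq_mul, mul_sub,
        Finset.sum_sub_distrib, Pi.single_apply, mul_ite, mul_zero]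
      rw [Finset.sum_ite_eq]
      by_cases hl : l = none
      · subst hl; simp only [Finset.mem_univ, if_true, ← Finset.sum_mul, hk]; ring
      · simp [hl, mul_comm]
    rw [he]
    exact add_mem (sum_mem fun i _ => zsmul_mem (hdiff i) _) (zsmul_mem h8 _)
  have hcode : ∀ y, ∃ a : GolayPt → ℤ, mod2 a = Golay.word (Golay.encAux Golay.rows y) ∧
      (4 : ℤ) ∣ ∑ i, a i ∧ (2 : ℤ) • a ∈ S := by
    suffices ∀ gs : List ℕ, (∀ g ∈ gs, g ∈ Golay.rows) → ∀ y, ∃ a : GolayPt → ℤ,
        mod2 a = Golay.word (Golay.encAux gs y) ∧ (4 : ℤ) ∣ ∑ i, a i ∧ (2 : ℤ) • a ∈ S from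
      this _ fun _ h => h
    intro gs
    induction gs with
    | nil => exact fun _ y => ⟨0, by rw [mod2_zero, Golay.encAux, Golay.word_zero], by simp, by simp [S.zero_mem]⟩
    | cons g gs ih =>
      intro hgs y
      obtain ⟨a, ha1, ha2, ha3⟩ := ih (fun g hg => hgs g (List.mem_cons_of_mem _ hg)) (y / 2)
      rw [Golay.encAux]
      by_cases hy : y % 2 = 1
      · have hg := hgs g List.mem_cons_self
        let r : GolayPt → ℤ := fun i => if g.testBit (Golay.idx i) then 1 else 0
        refine ⟨r + a, ?_, ?_, ?_⟩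
        · rw [if_pos hy, Golay.word_xor, mod2_add, ha1]
          congr 1
          funext i
          simp only [mod2, r, Golay.word]
          split_ifs <;> rfl
        · simp only [Pi.add_apply, Finset.sum_add_distrib]
          refine dvd_add ?_ ha2
          exact (by decide +kernel : ∀ g ∈ Golay.rows,
            (4 : ℤ) ∣ ∑ i : GolayPt, if g.testBit (Golay.idx i) then (1 : ℤ) else 0) g hg
        · rw [smul_add]
          refine add_mem ?_ ha3
          have : (2 : ℤ) • r = rowVec g := funext fun i => by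
            simp only [Pi.smul_apply, smul_eq_mul, r, rowVec]; split_ifs <;> rfl
          rw [this]
          exact hm _ (by simp only [latGens, List.mem_append, List.mem_map]; exact Or.inl (Or.inr ⟨g, hg, rfl⟩))
      · exact ⟨a, by rw [if_neg hy, Nat.zero_xor, ha1], ha2, ha3⟩
  have heven : ∀ z ∈ leechLattice, (2 : ℤ) ∣ z none → z ∈ S := by
    intro z hz h
    obtain ⟨m, a, hm', h1, h2, h3⟩ := exists_rep hz
    have hm0 : m = 0 := by have := h1 none; omega
    subst hm0
    obtain ⟨y, -, hy⟩ := Golay.mem_golayCode_iff.1 h3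
    obtain ⟨a', ha1, ha2, ha3⟩ := hy ▸ hcode y
    have hd : ∀ i, (2 : ℤ) ∣ a i - a' i := fun i => by
      have h0 : ((a i - a' i : ℤ) : ZMod 2) = 0 := by
        have := congrFun ha1 i
        simp only [mod2] at this
        rw [Int.cast_sub, this, sub_self]
      exact (ZMod.intCast_zmod_eq_zero_iff_dvd _ 2).1 h0
    choose b hb using hd
    have hbs : (2 : ℤ) ∣ ∑ i, b i := by
      have : ∑ i, a i - ∑ i, a' i = 2 * ∑ i, b i := by
        rw [← Finset.sum_sub_distrib, Finset.mul_sum]; exact Finset.sum_congr rfl fun i _ => hb i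
      simp only [Int.ModEq] at h2
      omega
    have hz' : z = (2 : ℤ) • a' + (4 : ℤ) • b := funext fun i => by
      have := hb i
      simp only [Pi.add_apply, Pi.smul_apply, smul_eq_mul, h1 i]
      omega
    rw [hz']
    exact add_mem ha3 (h4 b hbs)
  by_cases h : (2 : ℤ) ∣ x none
  · exact heven x hx h
  · have h' := heven _ (leechLattice.sub_mem hx oddMin_mem) (by
      simp only [Pi.sub_apply, oddMin, if_true]; omega)
    simpa using add_mem h' hodd

/-! ### The sextet element -/

/-- The tetrad containing a point. -/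
def tetOf (i : GolayPt) : ℕ := (tetradData.find? fun T => T.testBit (Golay.idx i)).getD 0

/-- Twice the sextet map. -/
def xiMat (i j : GolayPt) : ℤ :=
  (if (tetradData.getD 0 0).testBit (Golay.idx i) then -1 else 1) *
    ((if i = j then 2 else 0) - (if (tetOf i).testBit (Golay.idx j) then 1 else 0))

theorem xiMat_symm : ∀ i j, xiMat i j = xiMat j i := by decide +kernel

theorem xiMat_sq : ∀ i k, ∑ j, xiMat i j * xiMat j k = if i = k then 4 else 0 := by decide +kernel

/-- Twice the sextet map on vectors. -/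
def xiTwo (x : GolayPt → ℤ) : GolayPt → ℤ := fun i => ∑ j, xiMat i j * x j

/-- The sextet map. -/
def xiFun (x : GolayPt → ℤ) : GolayPt → ℤ := fun i => xiTwo x i / 2

theorem xiTwo_add (x y : GolayPt → ℤ) : xiTwo (x + y) = xiTwo x + xiTwo y := by
  funext i
  simp only [xiTwo, Pi.add_apply, mul_add, Finset.sum_add_distrib]

theorem xiTwo_xiTwo (x : GolayPt → ℤ) : xiTwo (xiTwo x) = (4 : ℤ) • x := by
  funext i
  simp only [xiTwo, Finset.mul_sum, ← mul_assoc]
  rw [Finset.sum_comm]
  simp only [← Finset.sum_mul, xiMat_sq, ite_mul, zero_mul, Finset.sum_ite_eq, Finset.mem_univ,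
    if_true, Pi.smul_apply, smul_eq_mul]

theorem dot_xiTwo (x y : GolayPt → ℤ) : dotInt (xiTwo x) y = dotInt x (xiTwo y) := by
  simp only [dotInt, xiTwo, Finset.sum_mul, Finset.mul_sum]
  rw [Finset.sum_comm]
  refine Finset.sum_congr rfl fun j _ => Finset.sum_congr rfl fun i _ => ?_
  rw [xiMat_symm i j]; ring

theorem xiTwo_gens : ∀ x ∈ latGens, (∀ i, 2 ∣ xiTwo x i) ∧ isLeech (xiFun x) = true := by
  have h : latGens.all (fun x => decide (∀ i, 2 ∣ xiTwo x i) && isLeech (xiFun x)) = true := by
    decide +kernel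
  intro x hx
  simpa [Bool.and_eq_true] using List.all_eq_true.1 h x hx

theorem xiFun_spec {x : GolayPt → ℤ} (hx : x ∈ leechLattice) :
    (∀ i, 2 ∣ xiTwo x i) ∧ xiFun x ∈ leechLattice := by
  have h := mem_closure_latGens hx
  clear hx
  induction h using AddSubgroup.closure_induction with
  | mem y hy => exact ⟨(xiTwo_gens y hy).1, mem_of_isLeech (xiTwo_gens y hy).2⟩
  | zero =>
    have : xiTwo (0 : GolayPt → ℤ) = 0 := funext fun i => by simp [xiTwo]
    refine ⟨fun i => by rw [this]; exact dvd_zero _, ?_⟩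
    rw [show xiFun (0 : GolayPt → ℤ) = 0 from funext fun i => by simp [xiFun, this]]
    exact zero_mem _
  | add y z _ _ ihy ihz =>
    refine ⟨fun i => by rw [xiTwo_add]; exact dvd_add (ihy.1 i) (ihz.1 i), ?_⟩
    rw [show xiFun (y + z) = xiFun y + xiFun z from funext fun i => by
      simp only [xiFun, xiTwo_add, Pi.add_apply]
      exact Int.add_ediv_of_dvd_left (ihy.1 i)]
    exact add_mem ihy.2 ihz.2
  | neg y _ ih =>
    have hn : xiTwo (-y) = -xiTwo y := funext fun i => by simp [xiTwo]
    refine ⟨fun i => by rw [hn]; exact dvd_neg.2 (ih.1 i), ?_⟩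
    rw [show xiFun (-y) = -xiFun y from funext fun i => by
      simp only [xiFun, hn, Pi.neg_apply]; exact Int.neg_ediv_of_dvd (ih.1 i)]
    exact neg_mem ih.2

theorem two_xiFun {x : GolayPt → ℤ} (hx : x ∈ leechLattice) : (2 : ℤ) • xiFun x = xiTwo x :=
  funext fun i => by
    simp only [Pi.smul_apply, smul_eq_mul, xiFun]
    exact Int.mul_ediv_cancel' ((xiFun_spec hx).1 i)

theorem xiFun_xiFun {x : GolayPt → ℤ} (hx : x ∈ leechLattice) : xiFun (xiFun x) = x := by
  have h1 := two_xiFun (xiFun_spec hx).2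
  have h2 : xiTwo ((2 : ℤ) • xiFun x) = (2 : ℤ) • xiTwo (xiFun x) := funext fun i => by
    simp only [xiTwo, Pi.smul_apply, smul_eq_mul, Finset.mul_sum]
    exact Finset.sum_congr rfl fun j _ => by ring
  rw [two_xiFun hx, xiTwo_xiTwo, ← h1] at h2
  funext i
  have := congrFun h2 i
  simp only [Pi.smul_apply, smul_eq_mul] at this
  omega

theorem sqNorm_xiFun {x : GolayPt → ℤ} (hx : x ∈ leechLattice) : sqNorm (xiFun x) = sqNorm x := by
  have h : dotInt (xiTwo x) (xiTwo x) = dotInt x ((4 : ℤ) • x) := by rw [dot_xiTwo, xiTwo_xiTwo]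
  rw [← two_xiFun hx] at h
  simp only [dotInt, Pi.smul_apply, smul_eq_mul] at h
  simp only [sqNorm, sq]
  have e1 : ∑ i, 2 * xiFun x i * (2 * xiFun x i) = 4 * ∑ i, xiFun x i * xiFun x i := by
    rw [Finset.mul_sum]; exact Finset.sum_congr rfl fun i _ => by ring
  have e2 : ∑ i, x i * (4 * x i) = 4 * ∑ i, x i * x i := by
    rw [Finset.mul_sum]; exact Finset.sum_congr rfl fun i _ => by ring
  rw [e1, e2] at h
  omega

/-- The sextet element of Co0. -/
def xiEl : Co0 :=
  ⟨{ toFun := fun v => ⟨xiFun v, (xiFun_spec v.2).2⟩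
     invFun := fun v => ⟨xiFun v, (xiFun_spec v.2).2⟩
     left_inv := fun v => Subtype.ext (xiFun_xiFun v.2)
     right_inv := fun v => Subtype.ext (xiFun_xiFun v.2) },
   fun v w => Subtype.ext (funext fun i => by
    show xiFun (v.1 + w.1) i = xiFun v.1 i + xiFun w.1 i
    simp only [xiFun, xiTwo_add, Pi.add_apply]
    exact Int.add_ediv_of_dvd_left ((xiFun_spec v.2).1 i)),
   fun v => sqNorm_xiFun v.2⟩

theorem vec_xiEl (v : leechLattice) : ((xiEl • v : leechLattice) : GolayPt → ℤ) = xiFun v := rfl

/-! ### The four elements -/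

/-- The `k`-th monomial datum. -/
def md (k : Fin 4) : ℕ × ℕ × ℕ := monoData.getD k.val (0, 0, 0)

theorem md_check : ∀ k : Fin 4, Golay.isAut (md k).1 = true ∧ Golay.isCode (md k).2.2 = true ∧
    (List.range 24).all (fun i => (Golay.fn (md k).2.1 i < 24 : Bool) &&
      Golay.fn (md k).1 (Golay.fn (md k).2.1 i) == i) = true := by decide +kernel

/-- The monomial elements. -/
noncomputable def monoEl (k : Fin 4) : Co0 :=
  mono (Golay.toPerm (md k).1) (Golay.toPerm_mem_M24 (md_check k).1) (Golay.pts (md k).2.2)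
    ((Golay.pts_mem_supports_iff (Golay.lt_of_isCode (md_check k).2.1)).2 (md_check k).2.1)

/-- The coordinates of a monomial element. -/
def monoFun (k : Fin 4) (x : GolayPt → ℤ) : GolayPt → ℤ := fun i =>
  if (md k).2.2.testBit (Golay.idx i) then -x (Golay.pt (Golay.fn (md k).2.1 (Golay.idx i)))
  else x (Golay.pt (Golay.fn (md k).2.1 (Golay.idx i)))

theorem vec_monoEl (k : Fin 4) (v : leechLattice) :
    ((monoEl k • v : leechLattice) : GolayPt → ℤ) = monoFun k v := by
  rw [monoEl, vec_mono]
  funext i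
  have h := md_check k
  have hi := List.all_eq_true.1 h.2.2 _ (List.mem_range.2 (Golay.idx_lt i))
  simp only [Bool.and_eq_true, decide_eq_true_eq, beq_iff_eq] at hi
  have hs : (Golay.toPerm (md k).1).symm i = Golay.pt (Golay.fn (md k).2.1 (Golay.idx i)) := by
    rw [Equiv.symm_apply_eq, Golay.toPerm_pt (Golay.validPerm_of_isAut h.1) hi.1, hi.2, Golay.pt_idx]
  simp only [signedPerm, hs, monoFun, Golay.mem_pts]

/-- The four elements: the first is composed with the sextet element. -/
noncomputable def genCo0 (k : Fin 4) : Co0 := if k = 0 then monoEl k * xiEl else monoEl k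

/-- Their coordinate functions. -/
def genFun (k : Fin 4) (x : GolayPt → ℤ) : GolayPt → ℤ :=
  if k = 0 then monoFun k (xiFun x) else monoFun k x

theorem vec_genCo0 (k : Fin 4) (v : leechLattice) :
    ((genCo0 k • v : leechLattice) : GolayPt → ℤ) = genFun k v := by
  rw [genCo0, genFun]
  split_ifs
  · rw [mul_smul, vec_monoEl, vec_xiEl]
  · rw [vec_monoEl]

/-- The sign change as a function. -/
def invFun0 (x : GolayPt → ℤ) : GolayPt → ℤ := fun i => if i ∈ oct then x i else -x i

theorem genFun_u : ∀ (k : Fin 4) (i : GolayPt), genFun k Spor.vecU i = Spor.vecU i := by decide +kernel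

theorem genFun_comm : ∀ (k : Fin 4) (j i : GolayPt),
    genFun k (invFun0 (Pi.single j 8)) i = invFun0 (genFun k (Pi.single j 8)) i := by decide +kernel

theorem genCo0_mem (k : Fin 4) : genCo0 k ∈ cent := by
  refine mem_cent.2 ⟨Subtype.ext ?_, ext_frame fun j => Subtype.ext ?_⟩
  · rw [vec_genCo0]
    exact funext (genFun_u k)
  · rw [mul_smul, mul_smul, vec_genCo0]
    funext i
    rw [inv0_smul, vec_genCo0]
    have e : ((inv0 • eightVec j : leechLattice) : GolayPt → ℤ) = invFun0 (Pi.single j 8) :=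
      funext fun l => inv0_smul _ l
    rw [e]
    exact genFun_comm k j i

/-- The four elements of the centraliser. -/
noncomputable def genEl (k : Fin 4) : cent := ⟨genCo0 k, genCo0_mem k⟩

/-- Bit vectors as coordinate vectors. -/
def toV (n : ℕ) : Fin 3 ⊕ Fin 3 → ZMod 2 := fun k => if n.testBit (coordIdx k) then 1 else 0

theorem genFun_basis : ∀ (k : Fin 4) (j i : Fin 3 ⊕ Fin 3),
    cz (genFun k (bv j)) i = toV ((matData.getD k.val []).getD (coordIdx j) 0) i := by decide +kernel

theorem mat_genEl (k : Fin 4) (i j : Fin 3 ⊕ Fin 3) :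
    mat (genEl k) i j = toV ((matData.getD k.val []).getD (coordIdx j) 0) i := by
  show cz (octMap (genEl k) (bOct j)).1 i = _
  rw [octMap_apply, show ((genEl k : Co0) • lift (bOct j) : leechLattice).1 = genFun k (bv j) from
    vec_genCo0 k _]
  exact genFun_basis k j i

end Cfsg.Agent.Co2Centralizer
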