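/-
The kernel of `phi`: the monomial elements whose permutation fixes the octad pointwise and whose
sign set avoids the octad; it is extraspecial of order 2^9.

* `mem_ker_phi_iff`, `natCard_ker_phi`, `isExtraspecial_ker_phi`
-/
import Cfsg.Agent.Lib.Co2Centralizer.Elements
import Cfsg.Agent.Lib.Golay.OctadStab
import Cfsg.Agent.Lib.Golay.Dodecad
import Cfsg.Agent.Lib.LargeExtraspecial.Central
import Cfsg.Agent.Lib.Leech.CrossMax

set_option autoImplicit false
open scoped Pointwise symmDiff commutatorElement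
open Cfsg
open Cfsg.Agent.Leech

namespace Cfsg.Agent.Co2Centralizer

instance : Finite cent :=
  haveI : Finite Co0 := Nat.finite_of_card_ne_zero (by rw [card_co0]; norm_num)
  Subtype.finite

/-- The six points of the octad other than the two of the fixed vector. -/
def six : Finset GolayPt := oct \ {none, some 0}

theorem six_subset : six ⊆ oct := Finset.sdiff_subset

theorem mem_oct_cases {i : GolayPt} (h : i ∈ oct) : i = none ∨ i = some 0 ∨ i ∈ six := by
  by_cases h1 : i = none
  · exact Or.inl h1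
  by_cases h2 : i = some 0
  · exact Or.inr (Or.inl h2)
  exact Or.inr (Or.inr (by simp [six, h, h1, h2]))

/-! ### Monomial products -/

theorem mono_congr {σ τ : Equiv.Perm GolayPt} (hσ : σ ∈ M24) (hτ : τ ∈ M24) {c e : Finset GolayPt}
    (hc : c ∈ supports (golayCode : Set (GolayPt → ZMod 2)))
    (he : e ∈ supports (golayCode : Set (GolayPt → ZMod 2))) (h1 : σ = τ) (h2 : c = e) :
    mono σ hσ c hc = mono τ hτ e he := by
  subst h1 h2; rfl

theorem mono_mul {σ τ : Equiv.Perm GolayPt} (hσ : σ ∈ M24) (hτ : τ ∈ M24) {c e : Finset GolayPt}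
    (hc : c ∈ supports (golayCode : Set (GolayPt → ZMod 2)))
    (he : e ∈ supports (golayCode : Set (GolayPt → ZMod 2))) :
    mono σ hσ c hc * mono τ hτ e he = mono (σ * τ) (mul_mem hσ hτ) (c ∆ (σ • e))
      (Golay.symmDiff_mem hc (Golay.smul_mem_supports hσ he)) := by
  refine co0_ext fun v => Subtype.ext (funext fun i => ?_)
  rw [mul_smul, vec_mono, vec_mono, vec_mono]
  have hm : i ∈ σ • e ↔ σ.symm i ∈ e := by
    rw [← Finset.inv_smul_mem_iff, Equiv.Perm.smul_def, Equiv.Perm.coe_inv]
  have hs : (σ * τ).symm i = τ.symm (σ.symm i) := rfl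
  simp only [signedPerm, Finset.mem_symmDiff, hm, hs]
  by_cases h1 : i ∈ c <;> by_cases h2 : σ.symm i ∈ e <;> simp [h1, h2]

theorem mono_one_empty : mono 1 M24.one_mem ∅ Golay.empty_mem = 1 :=
  co0_ext fun v => Subtype.ext (funext fun i => by rw [vec_mono]; simp [signedPerm]; rfl)

/-! ### Code words avoiding the octad, and the pointwise stabiliser of the octad -/

/-- The code words avoiding the octad. -/
def avoid : Set (Finset GolayPt) :=
  {c | c ∈ supports (golayCode : Set (GolayPt → ZMod 2)) ∧ Disjoint c oct}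

theorem exists_mask {c : Finset GolayPt} (hc : c ∈ avoid) :
    ∃ x < 4096, Golay.pts (Golay.enc x) = c ∧ Golay.enc x &&& Golay.octad0 = 0 := by
  obtain ⟨x, hx, rfl⟩ := Golay.mem_supports_iff_exists.1 hc.1
  refine ⟨x, hx, rfl, Golay.pts_injOn (lt_of_le_of_lt Nat.and_le_left (Golay.enc_lt x)) (by norm_num) ?_⟩
  rw [Golay.pts_and, Golay.pts_zero, ← Finset.disjoint_iff_inter_eq_empty]
  exact hc.2

theorem mem_avoid_of_mask {x : ℕ} (hx : x < 4096) (h : Golay.enc x &&& Golay.octad0 = 0) :
    Golay.pts (Golay.enc x) ∈ avoid := by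
  refine ⟨Golay.mem_supports_iff_exists.2 ⟨x, hx, rfl⟩, ?_⟩
  rw [Finset.disjoint_iff_inter_eq_empty, oct, ← Golay.pts_and, h, Golay.pts_zero]

theorem count_avoid :
    Golay.countSpan (fun m => m &&& Golay.octad0 == 0) Golay.rows 0 = 32 := by decide +kernel

theorem natCard_avoid : Nat.card avoid = 32 := by
  classical
  have e : avoid = (fun x => Golay.pts (Golay.enc x)) ''
      ↑((Finset.range 4096).filter fun x => (Golay.enc x &&& Golay.octad0 == 0) = true) := by
    ext c
    simp only [Finset.coe_filter, Finset.mem_range, Set.mem_image, Set.mem_ofPred_eq, beq_iff_eq]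
    constructor
    · intro h
      obtain ⟨x, hx, he, h0⟩ := exists_mask h
      exact ⟨x, ⟨hx, h0⟩, he⟩
    · rintro ⟨x, ⟨hx, h0⟩, rfl⟩
      exact mem_avoid_of_mask hx h0
  have hinj : Set.InjOn (fun x => Golay.pts (Golay.enc x))
      ↑((Finset.range 4096).filter fun x => (Golay.enc x &&& Golay.octad0 == 0) = true) := by
    intro x hx y hy h
    simp only [Finset.coe_filter, Finset.mem_range, Set.mem_ofPred_eq] at hx hy
    exact Golay.enc_injOn hx.1 hy.1 (Golay.pts_injOn (Golay.enc_lt x) (Golay.enc_lt y) h)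
  rw [Nat.card_coe_set_eq, e, Set.InjOn.ncard_image hinj, Set.ncard_coe_finset]
  have h := count_avoid
  rw [Golay.countSpan_eq, show 2 ^ Golay.rows.length = 4096 from rfl] at h
  simp only [Nat.zero_xor] at h
  exact h

theorem exists_code_perm {σ : Equiv.Perm GolayPt} (hσ : σ ∈ Golay.octadFix oct) :
    ∃ d ∈ Golay.transTable.getD 6 [], Golay.isAut d = true ∧ σ = Golay.toPerm d := by
  rw [oct, Golay.octadFix_octad0] at hσ
  obtain ⟨d, hd, ha, h⟩ := Golay.exists_transversal_mem (k := 6) (by norm_num) hσ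
  rw [show (6 + 1 : ℕ) = 7 from rfl, Golay.chain_seven, Subgroup.mem_bot, inv_mul_eq_one] at h
  exact ⟨d, hd, ha, h.symm⟩

theorem code_perm_mem {d : ℕ} (hd : d ∈ Golay.transTable.getD 6 []) :
    Golay.toPerm d ∈ Golay.octadFix oct := by
  have h : ∀ d ∈ Golay.transTable.getD 6 [], (Golay.isAut d && (List.range 24).all fun i =>
      !Golay.octad0.testBit i || Golay.fn d i == i) = true := by decide +kernel
  have hd' := h d hd
  simp only [Bool.and_eq_true, List.all_eq_true, List.mem_range, Bool.or_eq_true,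
    Bool.not_eq_true', beq_iff_eq] at hd'
  refine Golay.mem_octadFix.2 ⟨Golay.toPerm_mem_M24 hd'.1, fun p hp => Golay.idx_injective ?_⟩
  rw [Golay.idx_toPerm (Golay.validPerm_of_isAut hd'.1)]
  rcases hd'.2 _ (Golay.idx_lt p) with h' | h'
  · rw [oct, Golay.mem_pts, h'] at hp; simp at hp
  · exact h'

theorem smul_oct {σ : Equiv.Perm GolayPt} (hσ : σ ∈ Golay.octadFix oct) : σ • oct = oct := by
  rw [Golay.smul_eq_image, Finset.image_congr (f := σ) (g := id)
    (fun p hp => (Golay.mem_octadFix.1 hσ).2 p hp), Finset.image_id]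

theorem smul_octCompl {σ : Equiv.Perm GolayPt} (hσ : σ ∈ Golay.octadFix oct) : σ • octᶜ = octᶜ := by
  have h : ∀ i, i ∈ σ • octᶜ ↔ i ∈ octᶜ := fun i => by
    rw [← Finset.inv_smul_mem_iff, Finset.mem_compl, Finset.mem_compl]
    conv_lhs => rw [← smul_oct (inv_mem hσ), Finset.smul_mem_smul_finset_iff]
  exact Finset.ext h

theorem pts_octCompl : Golay.pts (16777215 ^^^ Golay.octad0) = octᶜ := by decide +kernel

theorem shift_check : ∀ d ∈ Golay.transTable.getD 6 [],
    Golay.allSpan (fun m => (m &&& Golay.octad0 != 0) || (Golay.imgMask d m ^^^ m == 0 ||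
      Golay.imgMask d m ^^^ m == 16777215 ^^^ Golay.octad0)) Golay.rows 0 = true := by decide +kernel

theorem shift_cases {σ : Equiv.Perm GolayPt} (hσ : σ ∈ Golay.octadFix oct) {c : Finset GolayPt}
    (hc : c ∈ avoid) : (σ • c) ∆ c = ∅ ∨ (σ • c) ∆ c = octᶜ := by
  obtain ⟨d, hd, ha, rfl⟩ := exists_code_perm hσ
  obtain ⟨x, -, rfl, h0⟩ := exists_mask hc
  have h := Golay.allSpan_rows (shift_check d hd) x
  simp only [h0, Bool.or_eq_true, beq_iff_eq, bne_self_eq_false, Bool.false_eq_true, false_or] at h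
  rw [← Golay.pts_imgMask (Golay.validPerm_of_isAut ha), ← Golay.pts_xor]
  rcases h with h | h
  · exact Or.inl (by rw [h, Golay.pts_zero])
  · exact Or.inr (by rw [h, pts_octCompl])

theorem sep_perm_check : ∀ d ∈ Golay.transTable.getD 6 [],
    ((List.range 24).all fun i => Golay.fn d i == i) = true ∨
    0 < Golay.countSpan (fun m => m &&& Golay.octad0 == 0 && Golay.imgMask d m != m) Golay.rows 0 := by
  decide +kernel

theorem eq_one_of_fix_avoid {σ : Equiv.Perm GolayPt} (hσ : σ ∈ Golay.octadFix oct)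
    (h : ∀ c ∈ avoid, σ • c = c) : σ = 1 := by
  obtain ⟨d, hd, ha, rfl⟩ := exists_code_perm hσ
  have hv := Golay.validPerm_of_isAut ha
  rcases sep_perm_check d hd with h1 | h1
  · refine Equiv.ext fun p => Golay.idx_injective ?_
    rw [Golay.idx_toPerm hv, Equiv.Perm.one_apply]
    simpa using List.all_eq_true.1 h1 _ (List.mem_range.2 (Golay.idx_lt p))
  · rw [Golay.countSpan_eq, Finset.card_pos] at h1
    obtain ⟨x, hx⟩ := h1
    simp only [Finset.mem_filter, Finset.mem_range, Nat.zero_xor, Bool.and_eq_true, beq_iff_eq,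
      bne_iff_ne] at hx
    obtain ⟨hx1, hx2, hx3⟩ := hx
    refine absurd ?_ hx3
    have h2 := h _ (mem_avoid_of_mask hx1 hx2)
    rw [← Golay.pts_imgMask hv] at h2
    exact Golay.pts_injOn (Golay.imgMask_lt hv _) (Golay.enc_lt x) h2

theorem sep_code_check : Golay.allSpan (fun m => (m &&& Golay.octad0 != 0) || (m == 0 ||
    (m == 16777215 ^^^ Golay.octad0 ||
      (Golay.transTable.getD 6 []).any fun d => Golay.imgMask d m != m))) Golay.rows 0 = true := by
  decide +kernel

theorem eq_of_fixed_avoid {c : Finset GolayPt} (hc : c ∈ avoid)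
    (h : ∀ σ ∈ Golay.octadFix oct, σ • c = c) : c = ∅ ∨ c = octᶜ := by
  obtain ⟨x, -, rfl, h0⟩ := exists_mask hc
  have h1 := Golay.allSpan_rows sep_code_check x
  simp only [h0, Bool.or_eq_true, beq_iff_eq, bne_self_eq_false, Bool.false_eq_true, false_or,
    List.any_eq_true, bne_iff_ne] at h1
  rcases h1 with h1 | h1 | ⟨d, hd, hne⟩
  · exact Or.inl (by rw [h1, Golay.pts_zero])
  · exact Or.inr (by rw [h1, pts_octCompl])
  · refine absurd ?_ hne
    have ha : Golay.isAut d = true :=
      (by decide +kernel : ∀ d ∈ Golay.transTable.getD 6 [], Golay.isAut d = true) d hd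
    have h2 := h _ (code_perm_mem hd)
    rw [← Golay.pts_imgMask (Golay.validPerm_of_isAut ha)] at h2
    exact Golay.pts_injOn (Golay.imgMask_lt (Golay.validPerm_of_isAut ha) _) (Golay.enc_lt x) h2

/-! ### Elements of the kernel -/

/-- The monomial element of the kernel. -/
def kerMono (σ : Golay.octadFix oct) (c : avoid) : Co0 :=
  mono σ.1 (Golay.mem_octadFix.1 σ.2).1 c.1 c.2.1

theorem kerMono_fix (σ : Golay.octadFix oct) (c : avoid) (x : octSub) :
    kerMono σ c • lift x = lift x := by
  refine Subtype.ext (funext fun i => ?_)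
  rw [kerMono, vec_mono]
  simp only [signedPerm, lift]
  by_cases hi : i ∈ oct
  · rw [if_neg (fun h => Finset.disjoint_left.1 c.2.2 h hi)]
    exact congrArg x.1 ((Equiv.symm_apply_eq _).2 ((Golay.mem_octadFix.1 σ.2).2 i hi).symm)
  · have hs : σ.1.symm i ∉ oct := fun h => by
      have h2 := (Golay.mem_octadFix.1 σ.2).2 _ h
      rw [Equiv.apply_symm_apply] at h2
      exact hi (h2 ▸ h)
    rw [x.2.2 i hi, x.2.2 _ hs]
    split_ifs <;> simp

theorem kerMono_mem (σ : Golay.octadFix oct) (c : avoid) : kerMono σ c ∈ cent := by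
  refine mem_cent.2 ⟨kerMono_fix σ c uOct, ?_⟩
  rw [kerMono, inv0, signEl, mono_mul, mono_mul]
  refine mono_congr _ _ _ _ (by rw [mul_one, one_mul]) ?_
  rw [smul_octCompl σ.2, one_smul, symmDiff_comm]

/-- As an element of the centraliser. -/
def kerEl (σ : Golay.octadFix oct) (c : avoid) : cent := ⟨kerMono σ c, kerMono_mem σ c⟩

theorem kerEl_mem_ker (σ : Golay.octadFix oct) (c : avoid) : kerEl σ c ∈ phi.ker := by
  refine MonoidHom.mem_ker.2 (Subtype.ext (Matrix.ext fun k j => ?_))
  show cz (octMap (kerEl σ c) (bOct j)).1 k = _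
  rw [show octMap (kerEl σ c) (bOct j) = bOct j from Subtype.ext
    (congrArg (fun v : leechLattice => (v : GolayPt → ℤ)) (kerMono_fix σ c (bOct j)))]
  exact (cz_bv j k).trans (Matrix.one_apply ..).symm

theorem kerEl_injective {σ τ : Golay.octadFix oct} {c e : avoid} (h : kerEl σ c = kerEl τ e) :
    σ = τ ∧ c = e := by
  have h' : kerMono σ c = kerMono τ e := congrArg Subtype.val h
  unfold kerMono at h'
  obtain ⟨h1, h2⟩ := mono_injective h'
  exact ⟨Subtype.ext h1, Subtype.ext h2⟩

/-- The root with coordinates `± 4` at two points. -/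
def pairRoot (i j : GolayPt) (s t : Bool) : GolayPt → ℤ :=
  Pi.single i (if s then -4 else 4) + Pi.single j (if t then 4 else -4)

theorem pairRoot_ok : ∀ i ∈ six, ∀ j ∈ six, i ≠ j →
    isOct (pairRoot i j false false) = true ∧ dotInt (pairRoot i j false false) uVec = 0 := by
  decide +kernel

theorem pairRoot_check : ∀ i ∈ six, ∀ j ∈ six, ∀ k ∈ six, ∀ l ∈ six, i ≠ j → k ≠ l → ∀ s t : Bool,
    (∀ m, cz (pairRoot k l s t) m = cz (pairRoot i j false false) m) → (k = i ∨ k = j) ∧ s = t := by
  decide +kernel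

/-- The vector moved by the sign change on the six points. -/
def flipVec : GolayPt → ℤ := ofList flipData

theorem flip_check : isOct flipVec = true ∧ dotInt flipVec uVec = 0 ∧
    ∃ m, cz (fun i => if i ∈ six then -flipVec i else flipVec i) m ≠ cz flipVec m := by
  decide +kernel

theorem cz_fix_of_ker {g : cent} (hg : g ∈ phi.ker) {x : octSub} (hu : dotInt x.1 uVec = 0) :
    cz (octMap g x) = cz x.1 := by
  have h : mat g = 1 := congrArg Subtype.val (MonoidHom.mem_ker.1 hg)
  rw [cz_octMap g hu, h, Matrix.one_mulVec]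

theorem mem_stdStab_of_ker {g : cent} (hg : g ∈ phi.ker) : (g : Co0) ∈ stdStab := by
  let x : octSub := ⟨Spor.vecU', mem_of_isOct (by decide +kernel)⟩
  have hxu : dotInt x.1 uVec = 0 := (by decide +kernel : dotInt Spor.vecU' uVec = 0)
  have hdu : dotInt (octMap g x - x).1 uVec = 0 := by
    have h1 := dot_octMap_u g x
    rw [hxu] at h1
    simp only [dotInt, AddSubgroup.coe_sub, Pi.sub_apply, sub_mul, Finset.sum_sub_distrib] at h1 hxu ⊢
    rw [h1, hxu, sub_zero]
  have hcz : czHom (octMap g x - x) = 0 := by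
    rw [map_sub, sub_eq_zero]
    exact cz_fix_of_ker hg hxu
  obtain ⟨n, c, y, hy⟩ := exists_decomp' hdu
  have hn : ∀ j, (2 : ℤ) ∣ n j := fun j => by
    have h1 := cz_decomp n c y.2
    have h2 : ((n j : ℤ) : ZMod 2) = 0 := by
      rw [← congrFun h1 j]
      have h3 := congrFun hcz j
      rw [hy] at h3
      refine (Eq.trans ?_ h3)
      show _ = cz _ j
      simp [bOct, uOct]
    exact (ZMod.intCast_zmod_eq_zero_iff_dvd _ 2).1 h2
  choose q hq using hn
  set w : octSub := (∑ j, q j • bOct j) + y with hw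
  have hy' : octMap g x = x + c • uOct + (2 : ℤ) • w := by
    rw [← sub_add_cancel (octMap g x) x, hy, hw, smul_add, Finset.smul_sum]
    simp only [hq, smul_smul]
    abel
  have hval : ((g : Co0) • lift x : leechLattice).1 = Spor.vecU' + c • uVec + (2 : ℤ) • w.1 := by
    rw [← octMap_apply, hy']
    simp [x, uOct]
  have hsq : sqNorm (((g : Co0) • lift x : leechLattice) : GolayPt → ℤ) = 32 := by
    rw [sqNorm_smul]; exact (by decide +kernel : sqNorm Spor.vecU' = 32)
  have he8 : Spor.vecU' + uVec = (Pi.single none 8 : GolayPt → ℤ) := funext (by decide +kernel)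
  rcases Int.even_or_odd c with ⟨r, hr⟩ | ⟨r, hr⟩
  · refine (mem_stdCross_iff_congr none).2 ⟨by rw [sqNorm_smul, sqNorm_eightVec], ?_⟩
    refine ⟨(r • uVec + w.1), leechLattice.add_mem (zsmul_mem uVec_mem.1 _) w.2.1, ?_⟩
    have e : eightVec none = lift x + lift uOct := Subtype.ext he8.symm
    have hu : (g : Co0) • lift uOct = lift uOct := (mem_cent.1 g.2).1
    rw [e, smul_vadd, hu]
    simp only [AddSubgroup.coe_add]
    rw [hval, hr]
    show _ + uVec - (Spor.vecU' + uVec) = _
    simp only [add_smul, smul_add, two_smul]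
    abel
  · exfalso
    have hc : Congr (((g : Co0) • lift x : leechLattice) : GolayPt → ℤ) (Pi.single none 8) := by
      refine ⟨r • uVec + w.1, leechLattice.add_mem (zsmul_mem uVec_mem.1 _) w.2.1, ?_⟩
      rw [hval, ← he8, hr, add_smul, one_smul, mul_smul, smul_add]
      abel
    rcases congr_short ((g : Co0) • lift x).2 hc (by rw [hsq]; norm_num)
      (by rw [← coe_eightVec, sqNorm_eightVec]) with h | h | ⟨h, -⟩
    · rw [h, ← coe_eightVec, sqNorm_eightVec] at hsq; norm_num at hsq
    · rw [h, sqNorm_neg, ← coe_eightVec, sqNorm_eightVec] at hsq; norm_num at hsq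
    · rw [hsq] at h; norm_num at h

theorem exists_of_mem_ker {g : cent} (hg : g ∈ phi.ker) : ∃ σ c, g = kerEl σ c := by
  classical
  obtain ⟨σ, hσ, c, hc, hgm⟩ := exists_mono_of_mem (mem_stdStab_of_ker hg)
  have himg : ∀ i ∈ oct, σ i ∈ oct := by
    intro i hi
    by_contra hno
    have hmem : (eightVec i : GolayPt → ℤ) ∈ octSub :=
      ⟨(eightVec i).2, fun l hl => by
        rw [coe_eightVec, Pi.single_eq_of_ne (fun e : l = i => hl (e ▸ hi))]⟩
    have h := (smul_mem_octSub g ⟨_, hmem⟩).2 (σ i) hno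
    rw [hgm, show lift ⟨(eightVec i : GolayPt → ℤ), hmem⟩ = eightVec i from rfl, vec_mono,
      coe_eightVec, signedPerm_single, Pi.single_eq_same] at h
    split_ifs at h <;> omega
  have hσo : σ • oct = oct := Finset.eq_of_subset_of_card_le (fun y hy => by
    obtain ⟨p, hp, rfl⟩ := Finset.mem_smul_finset.1 hy
    exact himg p hp) (by rw [Finset.card_smul_finset])
  have hcoord : ∀ (v : leechLattice) (i : GolayPt),
      (((g : Co0) • v : leechLattice) : GolayPt → ℤ) (σ i) =
        if σ i ∈ c then -(v : GolayPt → ℤ) i else (v : GolayPt → ℤ) i := fun v i => by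
    rw [hgm, vec_mono]; simp [signedPerm]
  have hu : ∀ i, i = none ∨ i = some 0 → (σ i = none ∨ σ i = some 0) ∧ σ i ∉ c := by
    intro i hi
    have h := hcoord Spor.leechU i
    rw [(mem_cent.1 g.2).1] at h
    have hv : Spor.vecU i = 4 := by rcases hi with rfl | rfl <;> rfl
    show (σ i = none ∨ σ i = some 0) ∧ σ i ∉ c
    have h' : Spor.vecU (σ i) = if σ i ∈ c then -Spor.vecU i else Spor.vecU i := h
    rw [hv] at h'
    simp only [Spor.vecU] at h'
    split_ifs at h' with h1 h2 h3
    all_goals first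
      | exact ⟨h1, h2⟩
      | omega
      | norm_num at h'
  have hsix : ∀ i ∈ six, σ i ∈ six := by
    intro i hi
    have hio := himg i (six_subset hi)
    simp only [six, Finset.mem_sdiff, Finset.mem_insert, Finset.mem_singleton, not_or] at hi ⊢
    refine ⟨hio, fun e => ?_, fun e => ?_⟩
    · rcases (hu none (Or.inl rfl)).1 with h | h
      · exact hi.2.1 (σ.injective (e.trans h.symm))
      · rcases (hu (some 0) (Or.inr rfl)).1 with h' | h'
        · exact hi.2.2 (σ.injective (e.trans h'.symm))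
        · exact absurd (σ.injective (h.trans h'.symm)) (by decide)
    · rcases (hu none (Or.inl rfl)).1 with h | h
      · rcases (hu (some 0) (Or.inr rfl)).1 with h' | h'
        · exact absurd (σ.injective (h.trans h'.symm)) (by decide)
        · exact hi.2.2 (σ.injective (e.trans h'.symm))
      · exact hi.2.1 (σ.injective (e.trans h.symm))
  have hpair : ∀ i ∈ six, ∀ j ∈ six, i ≠ j → (σ i = i ∨ σ i = j) ∧ (σ i ∈ c ↔ σ j ∈ c) := by
    intro i hi j hj hij
    obtain ⟨hO, hdu⟩ := pairRoot_ok i hi j hj hij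
    let x : octSub := ⟨_, mem_of_isOct hO⟩
    have himage : (octMap g x).1 =
        pairRoot (σ i) (σ j) (decide (σ i ∈ c)) (decide (σ j ∈ c)) := by
      funext l
      obtain ⟨m, rfl⟩ := σ.surjective l
      rw [octMap_apply, hcoord]
      show (if σ m ∈ c then -pairRoot i j false false m else pairRoot i j false false m) = _
      simp only [pairRoot, Pi.add_apply, Pi.single_apply, σ.injective.eq_iff]
      by_cases hmi : m = i
      · subst hmi; simp [hij]
      by_cases hmj : m = j
      · subst hmj; simp [hmi]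
      simp [hmi, hmj]
    have h := pairRoot_check i hi j hj _ (hsix i hi) _ (hsix j hj) hij (σ.injective.ne hij)
      _ _ (fun m => by rw [← himage]; exact congrFun (cz_fix_of_ker hg (x := x) hdu) m)
    exact ⟨h.1, by simpa using h.2⟩
  have hfix : ∀ i ∈ six, σ i = i := by
    intro i hi
    obtain ⟨j, hj, hji⟩ := Finset.exists_mem_ne (show 1 < six.card by decide +kernel) i
    obtain ⟨k, hk, hkk⟩ := Finset.exists_mem_notMem_of_card_lt_card
      (show ({i, j} : Finset GolayPt).card < six.card by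
        rw [Finset.card_pair (Ne.symm hji)]; decide +kernel)
    rw [Finset.mem_insert, Finset.mem_singleton, not_or] at hkk
    rcases (hpair i hi j hj (Ne.symm hji)).1 with h | h
    · exact h
    · rcases (hpair i hi k hk (Ne.symm hkk.1)).1 with h' | h'
      · exact h'
      · exact absurd (h'.symm.trans h) hkk.2
  have ha : σ none = none := by
    by_contra hne
    have hn : σ none = some 0 := (hu none (Or.inl rfl)).1.resolve_left hne
    have hz : σ (some 0) = none := by
      rcases (hu (some 0) (Or.inr rfl)).1 with h | h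
      · exact h
      · exact absurd (σ.injective (hn.trans h.symm)) (by decide)
    let S : ↥(Golay.octadStab oct) := ⟨σ, hσ, hσo⟩
    have hsign : Equiv.Perm.sign (Golay.octadRes oct S) = 1 :=
      Equiv.Perm.mem_alternatingGroup.1 (Golay.range_octadRes oct_mem ▸ ⟨S, rfl⟩)
    have hsw : Golay.octadRes oct S = Equiv.swap ⟨none, none_mem_oct⟩ ⟨some 0, zero_mem_oct⟩ := by
      refine Equiv.ext fun p => Subtype.ext ?_
      rw [Golay.octadRes_apply]
      show σ p.1 = _
      rcases mem_oct_cases p.2 with h | h | h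
      · rw [show p = ⟨none, none_mem_oct⟩ from Subtype.ext h, Equiv.swap_apply_left]; exact hn
      · rw [show p = ⟨some 0, zero_mem_oct⟩ from Subtype.ext h, Equiv.swap_apply_right]; exact hz
      · rw [Equiv.swap_apply_of_ne_of_ne (fun e => by
          simp [six, congrArg Subtype.val e] at h) (fun e => by
          simp [six, congrArg Subtype.val e] at h)]
        exact hfix _ h
    rw [hsw, Equiv.Perm.sign_swap (by simp)] at hsign
    exact absurd hsign (by decide)
  have hb : σ (some 0) = some 0 := by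
    rcases (hu (some 0) (Or.inr rfl)).1 with h | h
    · exact absurd (σ.injective (h.trans ha.symm)) (by decide)
    · exact h
  have hfixO : σ ∈ Golay.octadFix oct := Golay.mem_octadFix.2 ⟨hσ, fun p hp => by
    rcases mem_oct_cases hp with rfl | rfl | h
    exacts [ha, hb, hfix p h]⟩
  have hdis : Disjoint c oct := by
    rw [Finset.disjoint_left]
    intro p hpc hpo
    have hp6 : p ∈ six := by
      rcases mem_oct_cases hpo with rfl | rfl | h
      · exact absurd (by rw [ha]; exact hpc) (hu none (Or.inl rfl)).2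
      · exact absurd (by rw [hb]; exact hpc) (hu (some 0) (Or.inr rfl)).2
      · exact h
    have hall : ∀ i ∈ six, i ∈ c := fun i hi => by
      by_cases hip : i = p
      · exact hip ▸ hpc
      · have h := (hpair i hi p hp6 hip).2
        rw [hfix i hi, hfix p hp6] at h
        exact h.2 hpc
    obtain ⟨hO, hdu, m, hm⟩ := flip_check
    refine hm ?_
    have himage : (octMap g ⟨flipVec, mem_of_isOct hO⟩).1 =
        fun i => if i ∈ six then -flipVec i else flipVec i := by
      funext l
      obtain ⟨i, rfl⟩ := σ.surjective l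
      rw [octMap_apply, hcoord]
      show (if σ i ∈ c then -flipVec i else flipVec i) = _
      by_cases hi : i ∈ six
      · rw [hfix i hi, if_pos (hall i hi), if_pos hi]
      · by_cases hio : i ∈ oct
        · have hfi : σ i = i := (Golay.mem_octadFix.1 hfixO).2 i hio
          have hic : i ∉ c := by
            rcases mem_oct_cases hio with rfl | rfl | h
            · exact ha ▸ (hu none (Or.inl rfl)).2
            · exact hb ▸ (hu (some 0) (Or.inr rfl)).2
            · exact absurd h hi
          rw [hfi, if_neg hic, if_neg hi]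
        · have hno : σ i ∉ oct := fun h => hio (by
            rw [← hσo, ← Equiv.Perm.smul_def, Finset.smul_mem_smul_finset_iff] at h
            exact h)
          have h0 : flipVec i = 0 := (mem_of_isOct hO).2 i hio
          have h0' : flipVec (σ i) = 0 := (mem_of_isOct hO).2 _ hno
          rw [h0, h0', if_neg (fun h => hno (six_subset h))]
          split_ifs <;> simp
    rw [← himage]
    exact congrFun (cz_fix_of_ker hg (x := ⟨flipVec, mem_of_isOct hO⟩) hdu) m
  exact ⟨⟨σ, hfixO⟩, ⟨c, hc, hdis⟩, Subtype.ext hgm⟩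

theorem natCard_ker_phi : Nat.card phi.ker = 2 ^ 9 := by
  let f : Golay.octadFix oct × avoid → phi.ker := fun p => ⟨kerEl p.1 p.2, kerEl_mem_ker _ _⟩
  have hf : Function.Bijective f := by
    refine ⟨fun p q h => ?_, fun g => ?_⟩
    · obtain ⟨h1, h2⟩ := kerEl_injective (congrArg Subtype.val h)
      exact Prod.ext h1 h2
    · obtain ⟨σ, c, h⟩ := exists_of_mem_ker g.2
      exact ⟨(σ, c), Subtype.ext h.symm⟩
  rw [← Nat.card_congr (Equiv.ofBijective f hf), Nat.card_prod, natCard_avoid,
    Golay.natCard_octadFix oct_mem]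
  rfl

/-- The involution as an element of the centraliser. -/
def invEl : cent :=
  ⟨inv0, mem_cent.2 ⟨(mem_octSub_iff_fixed Spor.leechU).1 uVec_mem, rfl⟩⟩

theorem one_mem_octadFix : (1 : Equiv.Perm GolayPt) ∈ Golay.octadFix oct := one_mem _

theorem octCompl_avoid : octᶜ ∈ avoid := ⟨octCompl_mem, disjoint_compl_left⟩

theorem empty_avoid : (∅ : Finset GolayPt) ∈ avoid := ⟨Golay.empty_mem, Finset.disjoint_empty_left _⟩

theorem kerEl_empty : kerEl ⟨1, one_mem_octadFix⟩ ⟨∅, empty_avoid⟩ = 1 := Subtype.ext mono_one_empty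

theorem kerEl_full : kerEl ⟨1, one_mem_octadFix⟩ ⟨octᶜ, octCompl_avoid⟩ = invEl := Subtype.ext rfl

theorem symmDiff_avoid (σ : Golay.octadFix oct) {c e : Finset GolayPt} (hc : c ∈ avoid)
    (he : e ∈ avoid) : c ∆ (σ.1 • e) ∈ avoid := by
  refine ⟨Golay.symmDiff_mem hc.1 (Golay.smul_mem_supports (Golay.mem_octadFix.1 σ.2).1 he.1), ?_⟩
  have h : Disjoint (σ.1 • e) oct := by
    refine Finset.disjoint_left.2 fun y hy hy' => ?_
    obtain ⟨p, hp, rfl⟩ := Finset.mem_smul_finset.1 hy
    have hm : σ.1 • p ∈ σ.1 • oct := (smul_oct σ.2).symm ▸ hy'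
    rw [Finset.smul_mem_smul_finset_iff] at hm
    exact Finset.disjoint_left.1 he.2 hp hm
  exact Finset.disjoint_left.2 fun y hy hy' => by
    rcases Finset.mem_symmDiff.1 hy with ⟨h1, -⟩ | ⟨h1, -⟩
    · exact Finset.disjoint_left.1 hc.2 h1 hy'
    · exact Finset.disjoint_left.1 h h1 hy'

theorem kerEl_mul (σ τ : Golay.octadFix oct) (c e : avoid) :
    kerEl σ c * kerEl τ e = kerEl (σ * τ) ⟨_, symmDiff_avoid σ c.2 e.2⟩ :=
  Subtype.ext ((mono_mul (Golay.mem_octadFix.1 σ.2).1 (Golay.mem_octadFix.1 τ.2).1 c.2.1 e.2.1))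

theorem kerEl_congr {σ τ : Golay.octadFix oct} {c e : avoid} (h1 : σ.1 = τ.1) (h2 : c.1 = e.1) :
    kerEl σ c = kerEl τ e := by rw [Subtype.ext h1, Subtype.ext h2]

theorem perm_comm (σ τ : Golay.octadFix oct) : (σ.1 : Equiv.Perm GolayPt) * τ.1 = τ.1 * σ.1 := by
  have h := fun g (hg : g ∈ Golay.octadFix oct) => Golay.mul_self_octadFix oct_mem hg
  have hs := inv_eq_of_mul_eq_one_left (h _ σ.2)
  have ht := inv_eq_of_mul_eq_one_left (h _ τ.2)
  have hst := inv_eq_of_mul_eq_one_left (h _ (mul_mem σ.2 τ.2))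
  rw [mul_inv_rev, hs, ht] at hst
  exact hst.symm

theorem eq_mul_inv {σ : Golay.octadFix oct} {c e : avoid} (h : c.1 ∆ e.1 = octᶜ) :
    kerEl σ e = invEl * kerEl σ c := by
  rw [← kerEl_full, kerEl_mul]
  refine kerEl_congr (one_mul _).symm ?_
  show e.1 = octᶜ ∆ ((1 : Equiv.Perm GolayPt) • c.1)
  rw [one_smul, ← h, symmDiff_comm c.1 e.1, symmDiff_symmDiff_cancel_right]

theorem isExtraspecial_ker_phi : Cfsg.IsExtraspecial 2 ↥phi.ker := by
  haveI : Fact (Nat.Prime 2) := ⟨Nat.prime_two⟩
  refine (LargeExtraspecial.isExtraspecial_of_gen (z := invEl)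
    (IsPGroup.of_card natCard_ker_phi) (kerEl_full ▸ kerEl_mem_ker _ _) ?_ ?_ ?_ ?_ ?_ ?_).1
  · intro h
    rw [← kerEl_full, ← kerEl_empty] at h
    have h2 := congrArg (fun x : avoid => x.1) (kerEl_injective h).2
    exact absurd (h2 : octᶜ = ∅) (by decide +kernel)
  · exact fun q _ => Subtype.ext (mem_cent.1 q.2).2
  · intro x hx hcomm
    obtain ⟨σ, c, rfl⟩ := exists_of_mem_ker hx
    have hσ1 : σ.1 = 1 := eq_one_of_fix_avoid σ.2 fun e he => by
      have h := hcomm _ (kerEl_mem_ker ⟨1, one_mem_octadFix⟩ ⟨e, he⟩)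
      rw [kerEl_mul, kerEl_mul] at h
      have h2 : e ∆ ((1 : Equiv.Perm GolayPt) • c.1) = c.1 ∆ (σ.1 • e) :=
        congrArg Subtype.val (kerEl_injective h).2
      rw [one_smul, symmDiff_comm e] at h2
      exact (symmDiff_right_injective _ h2).symm
    have hc1 : c.1 = ∅ ∨ c.1 = octᶜ := eq_of_fixed_avoid c.2 fun τ hτ => by
      have h := hcomm _ (kerEl_mem_ker ⟨τ, hτ⟩ ⟨∅, empty_avoid⟩)
      rw [kerEl_mul, kerEl_mul] at h
      have h2 : (∅ : Finset GolayPt) ∆ (τ • c.1) = c.1 ∆ (σ.1 • (∅ : Finset GolayPt)) :=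
        congrArg Subtype.val (kerEl_injective h).2
      rw [Finset.smul_finset_empty, ← Finset.bot_eq_empty, bot_symmDiff, symmDiff_bot] at h2
      exact h2
    rcases hc1 with h | h
    · exact Or.inl ((kerEl_congr hσ1 h).trans kerEl_empty)
    · exact Or.inr ((kerEl_congr hσ1 h).trans kerEl_full)
  · intro a ha b hb
    obtain ⟨σ, c, rfl⟩ := exists_of_mem_ker ha
    obtain ⟨τ, e, rfl⟩ := exists_of_mem_ker hb
    rw [commutatorElement_def]
    have hperm : (σ * τ).1 = (τ * σ).1 := perm_comm σ τ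
    rcases shift_cases σ.2 e.2 with h1 | h1 <;> rcases shift_cases τ.2 c.2 with h2 | h2
    all_goals
      have key : (c.1 ∆ (σ.1 • e.1)) ∆ (e.1 ∆ (τ.1 • c.1)) = ((σ.1 • e.1) ∆ e.1) ∆ ((τ.1 • c.1) ∆ c.1) := by
        ext y; simp only [Finset.mem_symmDiff]; tauto
      rw [h1, h2] at key
    · left
      have h : kerEl σ c * kerEl τ e = kerEl τ e * kerEl σ c := by
        rw [kerEl_mul, kerEl_mul]
        exact kerEl_congr hperm (symmDiff_eq_bot.1 (by simpa [← Finset.bot_eq_empty] using key))
      rw [h]; group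
    · right
      have h : kerEl σ c * kerEl τ e = invEl * (kerEl τ e * kerEl σ c) := by
        rw [kerEl_mul, kerEl_mul, ← eq_mul_inv (σ := τ * σ) (c := ⟨_, symmDiff_avoid τ e.2 c.2⟩)
          (e := ⟨_, symmDiff_avoid σ c.2 e.2⟩) (by rw [symmDiff_comm]; simpa [← Finset.bot_eq_empty] using key)]
        exact kerEl_congr hperm rfl
      rw [h]; group
    · right
      have h : kerEl σ c * kerEl τ e = invEl * (kerEl τ e * kerEl σ c) := by
        rw [kerEl_mul, kerEl_mul, ← eq_mul_inv (σ := τ * σ) (c := ⟨_, symmDiff_avoid τ e.2 c.2⟩)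
          (e := ⟨_, symmDiff_avoid σ c.2 e.2⟩) (by rw [symmDiff_comm]; simpa [← Finset.bot_eq_empty] using key)]
        exact kerEl_congr hperm rfl
      rw [h]; group
    · left
      have h : kerEl σ c * kerEl τ e = kerEl τ e * kerEl σ c := by
        rw [kerEl_mul, kerEl_mul]
        exact kerEl_congr hperm (symmDiff_eq_bot.1 (by simpa [← Finset.bot_eq_empty] using key))
      rw [h]; group
  · intro a ha
    obtain ⟨σ, c, rfl⟩ := exists_of_mem_ker ha
    rw [kerEl_mul]
    have h1 : (σ * σ).1 = 1 := Golay.mul_self_octadFix oct_mem σ.2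
    rcases shift_cases σ.2 c.2 with h | h
    · exact Or.inl ((kerEl_congr h1 (by
        show c.1 ∆ (σ.1 • c.1) = ∅
        rw [symmDiff_comm, h])).trans kerEl_empty)
    · exact Or.inr ((kerEl_congr h1 (by
        show c.1 ∆ (σ.1 • c.1) = octᶜ
        rw [symmDiff_comm, h])).trans kerEl_full)
  · haveI : Nontrivial (Golay.octadFix oct) := Finite.one_lt_card_iff_nontrivial.1
      (by rw [Golay.natCard_octadFix oct_mem]; norm_num)
    obtain ⟨σ, hσ1⟩ := exists_ne (1 : Golay.octadFix oct)
    by_contra! hall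
    refine hσ1 (Subtype.ext (eq_one_of_fix_avoid σ.2 fun e he => ?_))
    have h := commutatorElement_eq_one_iff_mul_comm.1
      (hall _ (kerEl_mem_ker σ ⟨∅, empty_avoid⟩) _ (kerEl_mem_ker ⟨1, one_mem_octadFix⟩ ⟨e, he⟩))
    rw [kerEl_mul, kerEl_mul] at h
    have h2 : (∅ : Finset GolayPt) ∆ (σ.1 • e) = e ∆ ((1 : Equiv.Perm GolayPt) • (∅ : Finset GolayPt)) :=
      congrArg Subtype.val (kerEl_injective h).2
    rw [Finset.smul_finset_empty, ← Finset.bot_eq_empty, bot_symmDiff, symmDiff_bot] at h2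
    exact h2

end Cfsg.Agent.Co2Centralizer
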