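/-
`phi` maps the centraliser onto Sp(6, 2), and its kernel is the largest normal 2-subgroup.

* `exists_mat` (transitivity on nonzero vectors), `phi_surjective`, `pCore_eq_ker`
-/
import Cfsg.Agent.Lib.Co2Centralizer.Kernel
import Cfsg.Agent.Lib.Transvect.Symp
import Cfsg.Agent.Lib.Cores.Basic

set_option autoImplicit false
open Cfsg
open scoped Matrix MatrixGroups

namespace Cfsg.Agent.Co2Centralizer

local notation "V" => Fin 3 ⊕ Fin 3 → ZMod 2

/-- The matrix of the `k`-th element as listed. -/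
def genMat (k : Fin 4) : Matrix (Fin 3 ⊕ Fin 3) (Fin 3 ⊕ Fin 3) (ZMod 2) :=
  Matrix.of fun i j => toV ((matData.getD k.val []).getD (coordIdx j) 0) i

theorem mat_genEl_eq (k : Fin 4) : mat (genEl k) = genMat k := Matrix.ext (mat_genEl k)

/-- The matrix as a monoid hom. -/
def matHom : cent →* Matrix (Fin 3 ⊕ Fin 3) (Fin 3 ⊕ Fin 3) (ZMod 2) :=
  ⟨⟨mat, mat_one⟩, mat_mul⟩

/-- The matrix as an element of the general linear group. -/
def phiGL : cent →* GL (Fin 3 ⊕ Fin 3) (ZMod 2) := matHom.toHomUnits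

theorem app_phiGL (g : cent) (v : V) : Transvect.app (phiGL g) v = mat g *ᵥ v := rfl

theorem isIsom_phiGL (g : cent) : Transvect.IsIsom (sympForm 3 (ZMod 2)) (phiGL g) :=
  fun x y => form_mat g x y

/-! ### Transitivity on the nonzero vectors -/

/-- Points reached from the seed along a list of moves. -/
def chain : List (ℕ × ℕ × ℕ) → List ℕ → List ℕ
  | [], seen => seen
  | (q, p, g) :: L, seen =>
    if seen.contains p = true ∧ genMat (Fin.ofNat 4 g) *ᵥ toV p = toV q then chain L (q :: seen)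
    else chain L seen

theorem chain_sound (P : ℕ → Prop)
    (hP : ∀ (k : Fin 4) (p q : ℕ), P p → genMat k *ᵥ toV p = toV q → P q) :
    ∀ L seen, (∀ n ∈ seen, P n) → ∀ n ∈ chain L seen, P n
  | [], _, h => h
  | (q, p, g) :: L, seen, h => by
    rw [chain]
    split_ifs with hc
    · refine chain_sound P hP L _ fun n hn => ?_
      rcases List.mem_cons.1 hn with rfl | hn
      · exact hP _ p _ (h p (List.contains_iff_mem.1 hc.1)) hc.2
      · exact h n hn
    · exact chain_sound P hP L _ h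

theorem chain_orbitData : chain orbitData [centre] = (orbitData.map Prod.fst).reverse ++ [centre] := by
  decide +kernel

theorem toV_surj : ∀ v : V, v = 0 ∨
    ∃ n ∈ (orbitData.map Prod.fst).reverse ++ [centre], toV n = v := by decide +kernel

theorem exists_mat {v : V} (hv : v ≠ 0) : ∃ g : cent, mat g *ᵥ toV centre = v := by
  obtain ⟨n, hn, rfl⟩ := (toV_surj v).resolve_left hv
  refine chain_sound (fun n => ∃ g : cent, mat g *ᵥ toV centre = toV n) ?_ orbitData [centre] ?_ n
    (chain_orbitData ▸ hn)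
  · rintro k p q ⟨g, hg⟩ hq
    exact ⟨genEl k * g, by rw [mat_mul, ← Matrix.mulVec_mulVec, hg, mat_genEl_eq, hq]⟩
  · intro m hm
    rw [List.mem_singleton] at hm
    exact ⟨1, by rw [mat_one, Matrix.one_mulVec, hm]⟩

/-! ### Surjectivity -/

theorem transvection_check : ∀ x : V,
    genMat 3 *ᵥ x = x + sympForm 3 (ZMod 2) x (toV centre) • toV centre := by decide +kernel

theorem centre_mem :
    toV centre ∈ Transvect.centres (Transvect.sympForm_isSymplectic 3) phiGL.range := by
  intro c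
  rcases (by decide : ∀ c : ZMod 2, c = 0 ∨ c = 1) c with rfl | rfl
  · have h : Transvect.st (Transvect.sympForm_isSymplectic 3) (toV centre) (0 : ZMod 2) = 1 :=
      Transvect.gl_ext fun x => by rw [Transvect.st_apply, map_one]; simp
    exact h ▸ one_mem _
  · refine ⟨genEl 3, Transvect.gl_ext fun x => ?_⟩
    rw [app_phiGL, Transvect.st_apply, mat_genEl_eq, transvection_check]
    congr 2
    exact (one_mul _).symm

theorem all_centres (v : V) :
    v ∈ Transvect.centres (Transvect.sympForm_isSymplectic 3) phiGL.range := by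
  by_cases hv : v = 0
  · exact hv ▸ Transvect.zero_mem_centres _ _
  · obtain ⟨g, rfl⟩ := exists_mat hv
    exact Transvect.centres_conj _ (MonoidHom.mem_range.2 ⟨g, rfl⟩) (isIsom_phiGL g) centre_mem

theorem phi_surjective : Function.Surjective phi := by
  intro A
  let u : GL (Fin 3 ⊕ Fin 3) (ZMod 2) :=
    Units.map (Matrix.symplecticGroup (Fin 3) (ZMod 2)).subtype (toUnits A)
  have hu : Transvect.IsIsom (sympForm 3 (ZMod 2)) u := by
    intro x y
    show (A.1 *ᵥ x) ⬝ᵥ (Matrix.J (Fin 3) (ZMod 2) *ᵥ (A.1 *ᵥ y)) = _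
    rw [Matrix.mulVec_mulVec, Matrix.dotProduct_mulVec, ← Matrix.vecMul_transpose,
      Matrix.vecMul_vecMul, ← Matrix.dotProduct_mulVec, ← Matrix.mul_assoc,
      SymplecticGroup.mem_iff'.1 A.2]
    rfl
  obtain ⟨g, hg⟩ := Transvect.isometry_mem_of_centres _ phiGL.range all_centres hu
  exact ⟨g, Subtype.ext (congrArg Units.val hg)⟩

/-! ### The largest normal 2-subgroup -/

theorem normal_isPGroup_eq_bot {N : Subgroup (Matrix.symplecticGroup (Fin 3) (ZMod 2))}
    (hN : N.Normal) (hp : IsPGroup 2 N) : N = ⊥ := by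
  haveI : Fact (Nat.Prime 2) := ⟨Nat.prime_two⟩
  letI : MulAction N V :=
    { smul := fun n v => n.1.1 *ᵥ v
      one_smul := fun v => Matrix.one_mulVec v
      mul_smul := fun a b v => (Matrix.mulVec_mulVec v a.1.1 b.1.1).symm }
  obtain ⟨v, hv, hv0⟩ := hp.exists_fixed_point_of_prime_dvd_card_of_fixed_point (α := V)
    (by rw [Nat.card_eq_fintype_card]; simp [ZMod.card]) (a := (0 : V))
    (fun n => Matrix.mulVec_zero n.1.1)
  obtain ⟨g, rfl⟩ := exists_mat (Ne.symm hv0)
  have hfix : ∀ n ∈ N, ∀ w : V, n.1 *ᵥ w = w := by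
    intro n hn w
    by_cases hw : w = 0
    · rw [hw, Matrix.mulVec_zero]
    obtain ⟨k, rfl⟩ := exists_mat hw
    have hc : phi (g * k⁻¹) * n * (phi (g * k⁻¹))⁻¹ ∈ N := hN.conj_mem _ hn _
    have h : (phi (g * k⁻¹) * n * (phi (g * k⁻¹))⁻¹).1 *ᵥ (mat g *ᵥ toV centre) =
        mat g *ᵥ toV centre := hv ⟨_, hc⟩
    rw [← map_inv, mul_inv_rev, inv_inv] at h
    have h' : mat (g * k⁻¹) *ᵥ (n.1 *ᵥ (mat k *ᵥ toV centre)) = mat g *ᵥ toV centre := by
      conv_rhs => rw [← h]
      show _ = (mat (g * k⁻¹) * n.1 * mat (k * g⁻¹)) *ᵥ _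
      simp only [← Matrix.mulVec_mulVec]
      rw [Matrix.mulVec_mulVec _ (mat (k * g⁻¹)) (mat g), ← mat_mul, inv_mul_cancel_right]
    have h2 := congrArg (fun x => mat (k * g⁻¹) *ᵥ x) h'
    simp only [Matrix.mulVec_mulVec, ← mat_mul, inv_mul_cancel_right] at h2
    rw [← Matrix.mul_assoc, ← mat_mul, show k * g⁻¹ * (g * k⁻¹) = 1 by group, mat_one, Matrix.one_mul] at h2
    rw [Matrix.mulVec_mulVec]
    exact h2
  refine (Subgroup.eq_bot_iff_forall N).2 fun n hn => Subtype.ext ?_
  exact Matrix.ext_of_mulVec_single fun i => by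
    rw [hfix n hn, Submonoid.coe_one, Matrix.one_mulVec]

theorem pCore_eq_ker {G : Type*} [Group G] (ψ : G →* Matrix.symplecticGroup (Fin 3) (ZMod 2))
    (hs : Function.Surjective ψ) (hp : IsPGroup 2 ψ.ker) : pCore 2 G = ψ.ker :=
  le_antisymm ((Subgroup.map_eq_bot_iff _).1 (normal_isPGroup_eq_bot
    ((Cores.pCore_normal 2 G).map ψ hs) ((Cores.isPGroup_pCore 2 G).map ψ)))
    (Cores.le_pCore inferInstance hp)

end Cfsg.Agent.Co2Centralizer
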